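import Cfsg.Agent.H285.Ccp.HNThree
import Cfsg.Agent.H154.Split.HNThree
import Cfsg.Agent.H687.EqD.EvFb

/-!
# The 3-elements of the Harada-Norton group: commuting involutions, matrices (helper728)

For six elements `x` of order 3 an involution `t` with `t x = x t`; one kernel check in the 133-dimensional representation. The
involutions are found with the vector fixed by the alternating group of degree 12: `w⁻¹ x w` is in this group.
-/

set_option autoImplicit false
set_option maxRecDepth 100000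

namespace Cfsg.Agent.H728.Four.HN3C

open Subgroup Cfsg Cfsg.Agent.H285.HN3
open Cfsg.Agent.Lib.PackMat Cfsg.Agent.Lib.PackMatGroup Cfsg.Agent.Lib.PackMatMul Cfsg.Agent.HN.RepData
open Cfsg.Agent.HN.Rep (L LG gens rho)
open Cfsg.Agent.HN

/-- the first steps of the program of helper285 -/
def pre : List (ℕ × List ℕ) := [
  (20, [21]),
  (9, [9]),
  (11, [11]),
  (10, [10]),
  (0, [12, 1, 11]),
  (9, [9]),
  (12, [12]),
  (1, [12, 0, 11]),
  (9, [9]),
  (12, [12]),
  (1, [12, 0, 11]),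
  (6, [3, 0]),
  (7, [4]),
  (8, [8, 5]),
  (4, [20, 11, 17]),
  (17, [17]),
  (0, [21, 14, 18]),
  (8, [21, 13, 18]),
  (3, [1, 0]),
  (19, [19]),
  (29, [28, 27, 25, 18, 14, 27, 13, 29, 0]),
  (29, [17, 29, 26, 15, 26, 23, 12, 23, 1]),
  (19, [28, 2, 23, 30, 44, 44, 46, 44, 44, 42, 48, 46, 44, 44, 28, 2, 23, 20])]

/-- new steps: six blocks `w`, `w⁻¹`, `t'`, `t = w t' w⁻¹`, `x`, `t x`, `x t`, `t t` -/
def new : List (ℕ × List ℕ) := [
  (44, [46, 0, 50, 47, 0]),
  (1, [1, 48, 50, 1, 1, 46, 44]),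
  (33, [31, 30, 29, 33, 31, 27, 28]),
  (2, [0, 1]),
  (8, [4, 14]),
  (1, [0]),
  (1, [2]),
  (3, [3]),
  (53, [53, 8, 52, 58, 8]),
  (9, [9, 58, 52, 9, 9, 55, 55]),
  (41, [40, 35, 38, 33, 40, 35, 37]),
  (2, [0, 1]),
  (16, [12, 12, 22]),
  (1, [0]),
  (1, [2]),
  (3, [3]),
  (63, [61, 59, 61, 59, 16]),
  (17, [17, 61, 63, 61, 63, 64]),
  (43, [41, 50, 49, 49, 50, 48, 47, 47, 48, 46, 44, 44, 46, 45, 42, 42, 45]),
  (2, [0, 1]),
  (29, [20]),
  (1, [0]),
  (1, [2]),
  (3, [3]),
  (69, [24, 24, 73, 69, 68, 24, 24]),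
  (25, [68, 71, 75, 25, 71]),
  (56, [52, 54, 51, 56, 52, 50, 49]),
  (2, [0, 1]),
  (32, [37, 28]),
  (1, [0]),
  (1, [2]),
  (3, [3]),
  (77, [32, 32, 81, 77, 76, 32, 32]),
  (33, [76, 79, 83, 33, 79]),
  (66, [64, 65, 61, 66, 64, 59, 57]),
  (2, [0, 1]),
  (40, [40, 45, 36]),
  (1, [0]),
  (1, [2]),
  (3, [3]),
  (40, []),
  (41, [41]),
  (70, [68, 74, 73, 73, 74, 72, 65, 65, 72, 71, 69, 69, 71, 67, 66, 66, 67]),
  (2, [0, 1]),
  (48, [67]),
  (1, [0]),
  (1, [2]),
  (3, [3]),
  (49, [57]),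
  (58, [58, 50]),
  (51, [73]),
  (74, [74, 52])]

/-- the equalities -/
def es' : List (ℕ × ℕ) := [(46, 45), (44, 74), (38, 37), (36, 74), (30, 29), (28, 74), (22, 21), (20, 74), (14, 13), (12, 74), (6, 5), (4, 74), (3, 2), (1, 0)]

/-- the inequalities -/
def ns' : List (ℕ × ℕ) := [(48, 74), (40, 74), (32, 74), (24, 74), (16, 74), (8, 74)]

theorem chk' : checkS C (pre ++ new) es' ns' Cfsg.Agent.HN.A12Step.L20 = true :=
  Cfsg.Agent.H154.Split.checkS_of_segs 28 Cfsg.Agent.H154.Split.HNThree.segs rfl (by decide +kernel)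
    Cfsg.Agent.H154.Split.HNThree.chain

theorem sound' : (∀ q ∈ es', (runG (pre ++ new) LG').getD q.1 1 = (runG (pre ++ new) LG').getD q.2 1) ∧
    (∀ q ∈ ns', (runG (pre ++ new) LG').getD q.1 1 ≠ (runG (pre ++ new) LG').getD q.2 1) :=
  checkS_sound (good_of_check Rep.good) A12.results chk' (by decide)

/-- results -/
noncomputable def T (i : ℕ) : Cfsg.Spor.HN := (runG (pre ++ new) gens').getD i 1

theorem rho_T (i : ℕ) : rho (T i) = (runG (pre ++ new) LG').getD i 1 := by
  unfold T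
  rw [← gens'_map, runG_map, List.getD_eq_getElem?_getD, List.getD_eq_getElem?_getD, List.getElem?_map]
  cases (runG (pre ++ new) gens')[i]? with
  | none => simp
  | some b => simp

theorem eqT {i j : ℕ} (h : (i, j) ∈ es') : T i = T j := by
  have := Cfsg.Agent.S1701.result.1
  apply A12Group.rho_injective
  rw [rho_T, rho_T]
  exact sound'.1 (i, j) h

theorem neT {i j : ℕ} (h : (i, j) ∈ ns') : T i ≠ T j := by
  intro h1
  refine sound'.2 (i, j) h ?_
  rw [← rho_T, ← rho_T, h1]

theorem runG_append {G : Type*} [Group G] (u v : List (ℕ × List ℕ)) (LG : List G) :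
    runG (u ++ v) LG = runG v (runG u LG) := by
  induction u generalizing LG with
  | nil => rfl
  | cons w u ih => rw [List.cons_append, runG_cons, runG_cons, ih]

theorem T_old (j : ℕ) : T (52 + j) = R (62 + j) := by
  have h1 : prog = pre ++ prog.drop 23 := by rfl
  have h4 : (prog.drop 23).length = 62 := rfl
  have e1 : T (52 + j) = (runG pre gens').getD j 1 := by
    unfold T
    rw [runG_append]
    exact runG_getD new _ j
  have e2 : R (62 + j) = (runG pre gens').getD j 1 := by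
    unfold R
    conv_lhs => rw [h1, runG_append, ← h4]
    exact runG_getD _ _ j
  rw [e1, e2]

theorem stepT {i : ℕ} {w : List ℕ} (hi : i < (pre ++ new).length)
    (hw : (((pre ++ new).reverse.getD i (0, [])).1 :: ((pre ++ new).reverse.getD i (0, [])).2) = w) :
    T i = evF (fun m => T (i + 1 + m)) w := by
  rw [← hw]
  exact runG_step (pre ++ new) gens' i hi

theorem t_one : T 74 = 1 := (T_old 22).trans one_eq
theorem tC : T 52 = C₁ := T_old 0
theorem tV : T 53 = V := T_old 1
theorem tS : T 54 = S := T_old 2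
theorem tA : T 56 = A := T_old 4
theorem tB : T 61 = B := T_old 9
theorem tF : T 62 = F := T_old 10
theorem tW : T 63 = W := T_old 11
theorem tD : T 75 = D := T_old 23

/-- commutes with an involution -/
def CI (x : Cfsg.Spor.HN) : Prop := ∃ t : Cfsg.Spor.HN, orderOf t = 2 ∧ t * x = x * t

theorem ci_block {k : ℕ} {x : Cfsg.Spor.HN} (h0 : T k = T (k + 4) * T (k + 4)) (h1 : T (k + 1) = T (k + 3) * T (k + 4))
    (h2 : T (k + 2) = T (k + 4) * T (k + 3)) (hx : T (k + 3) = x) (e0 : T k = T 74) (e1 : T (k + 2) = T (k + 1))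
    (n0 : T (k + 4) ≠ T 74) : CI x := by
  rw [t_one] at e0 n0
  subst hx
  refine ⟨T (k + 4), orderOf_eq_prime ?_ n0, ?_⟩
  · rw [pow_two, ← h0, e0]
  · rw [← h2, e1, h1]

theorem ci1 : CI (A * (C₁ * F)) := by
  have h0 := stepT (i := 44) (w := [3, 3]) (by decide) (by rfl)
  have h1 := stepT (i := 45) (w := [1, 2]) (by decide) (by rfl)
  have h2 := stepT (i := 46) (w := [1, 0]) (by decide) (by rfl)
  have h3 := stepT (i := 47) (w := [8, 4, 14]) (by decide) (by rfl)
  simp only [evF, mul_one] at h0 h1 h2 h3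
  refine ci_block (k := 44) h0 h1 h2 (h3.trans ?_) (eqT (by decide)) (eqT (by decide)) (neT (by decide))
  rw [show T (47 + 1 + 8) = A from tA, show T (47 + 1 + 4) = C₁ from tC, show T (47 + 1 + 14) = F from tF]

theorem ci2 : CI (A * (C₁ * (C₁ * F))) := by
  have h0 := stepT (i := 36) (w := [3, 3]) (by decide) (by rfl)
  have h1 := stepT (i := 37) (w := [1, 2]) (by decide) (by rfl)
  have h2 := stepT (i := 38) (w := [1, 0]) (by decide) (by rfl)
  have h3 := stepT (i := 39) (w := [16, 12, 12, 22]) (by decide) (by rfl)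
  simp only [evF, mul_one] at h0 h1 h2 h3
  refine ci_block (k := 36) h0 h1 h2 (h3.trans ?_) (eqT (by decide)) (eqT (by decide)) (neT (by decide))
  rw [show T (39 + 1 + 16) = A from tA, show T (39 + 1 + 12) = C₁ from tC, show T (39 + 1 + 22) = F from tF]

theorem ci3 : CI (B * C₁) := by
  have h0 := stepT (i := 28) (w := [3, 3]) (by decide) (by rfl)
  have h1 := stepT (i := 29) (w := [1, 2]) (by decide) (by rfl)
  have h2 := stepT (i := 30) (w := [1, 0]) (by decide) (by rfl)
  have h3 := stepT (i := 31) (w := [29, 20]) (by decide) (by rfl)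
  simp only [evF, mul_one] at h0 h1 h2 h3
  refine ci_block (k := 28) h0 h1 h2 (h3.trans ?_) (eqT (by decide)) (eqT (by decide)) (neT (by decide))
  rw [show T (31 + 1 + 29) = B from tB, show T (31 + 1 + 20) = C₁ from tC]

theorem ci4 : CI (A * (B * C₁)) := by
  have h0 := stepT (i := 20) (w := [3, 3]) (by decide) (by rfl)
  have h1 := stepT (i := 21) (w := [1, 2]) (by decide) (by rfl)
  have h2 := stepT (i := 22) (w := [1, 0]) (by decide) (by rfl)
  have h3 := stepT (i := 23) (w := [32, 37, 28]) (by decide) (by rfl)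
  simp only [evF, mul_one] at h0 h1 h2 h3
  refine ci_block (k := 20) h0 h1 h2 (h3.trans ?_) (eqT (by decide)) (eqT (by decide)) (neT (by decide))
  rw [show T (23 + 1 + 32) = A from tA, show T (23 + 1 + 37) = B from tB, show T (23 + 1 + 28) = C₁ from tC]

theorem ci5 : CI (A * (A * (B * C₁))) := by
  have h0 := stepT (i := 12) (w := [3, 3]) (by decide) (by rfl)
  have h1 := stepT (i := 13) (w := [1, 2]) (by decide) (by rfl)
  have h2 := stepT (i := 14) (w := [1, 0]) (by decide) (by rfl)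
  have h3 := stepT (i := 15) (w := [40, 40, 45, 36]) (by decide) (by rfl)
  simp only [evF, mul_one] at h0 h1 h2 h3
  refine ci_block (k := 12) h0 h1 h2 (h3.trans ?_) (eqT (by decide)) (eqT (by decide)) (neT (by decide))
  rw [show T (15 + 1 + 40) = A from tA, show T (15 + 1 + 45) = B from tB, show T (15 + 1 + 36) = C₁ from tC]

theorem ci6 : CI (A * D) := by
  have h0 := stepT (i := 4) (w := [3, 3]) (by decide) (by rfl)
  have h1 := stepT (i := 5) (w := [1, 2]) (by decide) (by rfl)
  have h2 := stepT (i := 6) (w := [1, 0]) (by decide) (by rfl)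
  have h3 := stepT (i := 7) (w := [48, 67]) (by decide) (by rfl)
  simp only [evF, mul_one] at h0 h1 h2 h3
  refine ci_block (k := 4) h0 h1 h2 (h3.trans ?_) (eqT (by decide)) (eqT (by decide)) (neT (by decide))
  rw [show T (7 + 1 + 48) = A from tA, show T (7 + 1 + 67) = D from tD]

theorem V_B : V * B * V⁻¹ = B⁻¹ := by
  have h0 := stepT (i := 3) (w := [49, 57]) (by decide) (by rfl)
  have h1 := stepT (i := 2) (w := [58, 58, 50]) (by decide) (by rfl)
  simp only [evF, mul_one] at h0 h1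
  rw [show T (3 + 1 + 49) = V from tV, show T (3 + 1 + 57) = B from tB] at h0
  rw [show T (2 + 1 + 58) = B from tB, show T (2 + 1 + 50) = V from tV] at h1
  rw [mul_inv_eq_iff_eq_mul, ← h0, eqT (i := 3) (j := 2) (by decide), h1, ← mul_assoc, sq_eq e_b3]

theorem V_D : V * D * V⁻¹ = D⁻¹ := by
  have h0 := stepT (i := 1) (w := [51, 73]) (by decide) (by rfl)
  have h1 := stepT (i := 0) (w := [74, 74, 52]) (by decide) (by rfl)
  simp only [evF, mul_one] at h0 h1
  rw [show T (1 + 1 + 51) = V from tV, show T (1 + 1 + 73) = D from tD] at h0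
  rw [show T (0 + 1 + 74) = D from tD, show T (0 + 1 + 52) = V from tV] at h1
  rw [mul_inv_eq_iff_eq_mul, ← h0, eqT (i := 1) (j := 0) (by decide), h1, ← mul_assoc, sq_eq e_d3]

end Cfsg.Agent.H728.Four.HN3C
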