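import Cfsg.Agent.H728.Four.HNThree
import Cfsg.Agent.H728.Four.HNThreeCommMat

/-!
# Elements of order 3 of the Harada-Norton group commute with an involution (helper728)

`Q`: by conjugation with `F`, `S`, `V` and `Q` a noncentral element is one of `A^i C₁^u` (commutes with `V`), `B^j D^l` (`S V`), and
`B C₁`, `A B C₁`, `A² B C₁`, `A D` (matrices). `Q F`: `W^m F` commutes with `S`, `A^i F` and `C₁^u F` have order 9, and
`A C₁ F`, `A C₁² F` are treated with matrices.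
-/

set_option autoImplicit false

namespace Cfsg.Agent.H728.Four.HN3C

open Subgroup Cfsg Cfsg.Agent.H839.Rad.Ext Cfsg.Agent.H285.ExtReal Cfsg.Agent.H285.HN3
open Cfsg.Agent.H728.Four.HN3 (S_sq V_sq S_V conj_central w3z)

/-! ### involutions -/

theorem W_ne : W ≠ 1 := by
  intro h
  have := ext.hw
  rw [h, orderOf_one] at this
  norm_num at this

theorem W_inv_ne : W⁻¹ ≠ W := by
  intro h
  apply W_ne
  have h1 : W * W = W⁻¹ := sq_eq e_w3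
  rw [h] at h1
  simpa using h1

theorem V_ord : orderOf V = 2 := by
  refine orderOf_eq_prime (by rw [pow_two]; exact V_sq) ?_
  intro h
  have := V_W
  rw [h, one_mul, inv_one, mul_one] at this
  exact W_inv_ne this.symm

theorem S_ord : orderOf S = 2 := by
  refine orderOf_eq_prime (by rw [pow_two]; exact S_sq) ?_
  intro h
  have h1 := S_A
  rw [h, one_mul, inv_one, mul_one] at h1
  have h2 : A * A = A⁻¹ := sq_eq e_a3
  rw [← h1] at h2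
  have h3 : A = 1 := by simpa using h2
  have h4 := e_ab
  rw [h3, one_mul, mul_one] at h4
  exact W_ne (by simpa using h4.symm)

theorem SV_W : (S * V) * W * (S * V)⁻¹ = W⁻¹ := by
  calc (S * V) * W * (S * V)⁻¹ = S * (V * W * V⁻¹) * S⁻¹ := by group
    _ = (S * W * S⁻¹)⁻¹ := by rw [V_W]; group
    _ = W⁻¹ := by rw [S_W]

theorem SV_ord : orderOf (S * V) = 2 := by
  refine orderOf_eq_prime ?_ ?_
  · calc (S * V) ^ 2 = S * (V * S) * V := by rw [pow_two]; group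
      _ = S * S * (V * V) := by rw [← S_V]; group
      _ = 1 := by rw [S_sq, V_sq, mul_one]
  · intro h
    have := SV_W
    rw [h, one_mul, inv_one, mul_one] at this
    exact W_inv_ne this.symm

theorem ci_conj {x : Spor.HN} (g : Spor.HN) (h : CI (g * x * g⁻¹)) : CI x := by
  obtain ⟨t, ht, hc⟩ := h
  refine ⟨g⁻¹ * t * g, ?_, ?_⟩
  · have h1 : g⁻¹ * t * g = MulAut.conj g⁻¹ t := by simp
    rw [h1]
    exact (MulEquiv.orderOf_eq _ _).trans ht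
  · calc g⁻¹ * t * g * x = g⁻¹ * (t * (g * x * g⁻¹)) * g := by group
      _ = x * (g⁻¹ * t * g) := by rw [hc]; group

theorem ci_inv {x : Spor.HN} (h : CI x⁻¹) : CI x := by
  obtain ⟨t, ht, hc⟩ := h
  refine ⟨t, ht, ?_⟩
  have : Commute t x⁻¹ := hc
  simpa using this.inv_right.eq

theorem ci_of_conj {x t : Spor.HN} (ht : orderOf t = 2) (h : t * x * t⁻¹ = x) : CI x :=
  ⟨t, ht, mul_inv_eq_iff_eq_mul.1 h⟩

/-! ### `Q` -/

/-- the coset of `(i, j, u, l)` contains an element commuting with an involution -/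
def K (i j u l : ℤ) : Prop := ∃ m, CI (nf W A B C₁ D i j u l m)

theorem ci_of_K {i j u l : ℤ} (h : ¬ (3 : ℤ) ∣ i ∨ ¬ (3 : ℤ) ∣ j ∨ ¬ (3 : ℤ) ∣ u ∨ ¬ (3 : ℤ) ∣ l) (hK : K i j u l) (m : ℤ) :
    CI (nf W A B C₁ D i j u l m) := by
  obtain ⟨m', hm⟩ := hK
  obtain ⟨s, hs⟩ := conj_central h m (m' - m)
  apply ci_conj s
  rw [hs, show m + (m' - m) = m' by ring]
  exact hm

theorem nf_cast {i j u l m i' j' u' l' : ℤ} (h1 : (3 : ℤ) ∣ i - i') (h2 : (3 : ℤ) ∣ j - j') (h3 : (3 : ℤ) ∣ u - u')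
    (h4 : (3 : ℤ) ∣ l - l') : nf W A B C₁ D i j u l m = nf W A B C₁ D i' j' u' l' m := by
  unfold nf
  rw [zpow_eq ext.ha h1, zpow_eq ext.hb h2, zpow_eq ext.hc h3, zpow_eq ext.hd h4]

theorem K_cast {i j u l i' j' u' l' : ℤ} (h : K i' j' u' l') (h1 : (3 : ℤ) ∣ i - i') (h2 : (3 : ℤ) ∣ j - j')
    (h3 : (3 : ℤ) ∣ u - u') (h4 : (3 : ℤ) ∣ l - l') : K i j u l := by
  obtain ⟨m, hm⟩ := h
  exact ⟨m, by rw [nf_cast h1 h2 h3 h4]; exact hm⟩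

/-- `S` -/
theorem S_nf (i j u l m : ℤ) : S * nf W A B C₁ D i j u l m * S⁻¹ = nf W A B C₁ D (-i) (-j) (-u) (-l) m := by
  have h1 : S * nf W A B C₁ D i j u l m * S⁻¹ = (S * A * S⁻¹) ^ i * (S * B * S⁻¹) ^ j * (S * C₁ * S⁻¹) ^ u *
      (S * D * S⁻¹) ^ l * (S * W * S⁻¹) ^ m := by
    unfold nf
    simp only [conj_zpow]
    group
  rw [h1, S_A, S_B, S_C, S_D, S_W]
  unfold nf
  simp only [inv_zpow', ]

/-- `V` -/
theorem V_nf (i j u l m : ℤ) : V * nf W A B C₁ D i j u l m * V⁻¹ = nf W A B C₁ D i (-j) u (-l) (-m) := by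
  have h1 : V * nf W A B C₁ D i j u l m * V⁻¹ = (V * A * V⁻¹) ^ i * (V * B * V⁻¹) ^ j * (V * C₁ * V⁻¹) ^ u *
      (V * D * V⁻¹) ^ l * (V * W * V⁻¹) ^ m := by
    unfold nf
    simp only [conj_zpow]
    group
  rw [h1, V_A, V_B, V_C, V_D, V_W]
  unfold nf
  simp only [inv_zpow', ]

theorem K_neg {i j u l : ℤ} (h : K (-i) (-j) (-u) (-l)) : K i j u l := by
  obtain ⟨m, hm⟩ := h
  refine ⟨m, ci_conj S ?_⟩
  rw [S_nf]
  exact hm

theorem K_V {i j u l : ℤ} (h : K i (-j) u (-l)) : K i j u l := by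
  obtain ⟨m, hm⟩ := h
  refine ⟨-m, ci_conj V ?_⟩
  rw [V_nf, neg_neg]
  exact hm

/-- the same coset of the centre -/
def Co (x : Spor.HN) (i j u l : ℤ) : Prop := ∃ m, x = nf W A B C₁ D i j u l m

theorem Co.mul {x y : Spor.HN} {i j u l i' j' u' l' : ℤ} (hx : Co x i j u l) (hy : Co y i' j' u' l') :
    Co (x * y) (i + i') (j + j') (u + u') (l + l') := by
  obtain ⟨m, rfl⟩ := hx
  obtain ⟨m', rfl⟩ := hy
  exact ⟨_, ext.nf_mul _ _ _ _ _ _ _ _ _ _⟩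

theorem Co.inv {x : Spor.HN} {i j u l : ℤ} (hx : Co x i j u l) : Co x⁻¹ (-i) (-j) (-u) (-l) := by
  obtain ⟨m, rfl⟩ := hx
  refine ⟨-m - i * j - u * l, ?_⟩
  rw [inv_eq_iff_mul_eq_one, ext.nf_mul, ← nf_zero (w := W) (a := A) (b := B) (c := C₁) (d := D)]
  congr 1 <;> ring

theorem Co.one : Co 1 0 0 0 0 := ⟨0, nf_zero.symm⟩

theorem Co.cast {x : Spor.HN} {i j u l i' j' u' l' : ℤ} (hx : Co x i j u l) (h1 : i = i') (h2 : j = j') (h3 : u = u')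
    (h4 : l = l') : Co x i' j' u' l' := by subst h1 h2 h3 h4; exact hx

theorem Co.pow {x : Spor.HN} {i j u l : ℤ} (hx : Co x i j u l) (n : ℕ) : Co (x ^ n) (n * i) (n * j) (n * u) (n * l) := by
  induction n with
  | zero => rw [pow_zero]; exact Co.one.cast (by simp) (by simp) (by simp) (by simp)
  | succ n ih =>
    rw [pow_succ]
    exact (ih.mul hx).cast (by push_cast; ring) (by push_cast; ring) (by push_cast; ring) (by push_cast; ring)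

theorem Co.zpow {x : Spor.HN} {i j u l : ℤ} (hx : Co x i j u l) (n : ℤ) : Co (x ^ n) (n * i) (n * j) (n * u) (n * l) := by
  rcases Int.eq_nat_or_neg n with ⟨k, rfl | rfl⟩
  · rw [zpow_natCast]; exact hx.pow k
  · rw [zpow_neg, zpow_natCast]
    exact (hx.pow k).inv.cast (by ring) (by ring) (by ring) (by ring)

/-- `F` -/
theorem F_co (i j u l m : ℤ) : Co (F * nf W A B C₁ D i j u l m * F⁻¹) i (j + i) u (l + 2 * u) := by
  have h1 : F * nf W A B C₁ D i j u l m * F⁻¹ = (F * A * F⁻¹) ^ i * (F * B * F⁻¹) ^ j * (F * C₁ * F⁻¹) ^ u *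
      (F * D * F⁻¹) ^ l * (F * W * F⁻¹) ^ m := by
    unfold nf
    simp only [conj_zpow]
    group
  rw [h1, F_A, F_B, F_C, F_D, F_W]
  have hA : Co (nf W A B C₁ D 1 1 0 0 1) 1 1 0 0 := ⟨_, rfl⟩
  have hB : Co B 0 1 0 0 := ⟨0, by simp [nf]⟩
  have hC : Co (nf W A B C₁ D 0 0 1 2 2) 0 0 1 2 := ⟨_, rfl⟩
  have hD : Co D 0 0 0 1 := ⟨0, by simp [nf]⟩
  have hW : Co W 0 0 0 0 := ⟨1, by simp [nf]⟩
  exact ((((hA.zpow i).mul (hB.zpow j)).mul (hC.zpow u)).mul (hD.zpow l)).mul (hW.zpow m) |>.cast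
    (by ring) (by ring) (by ring) (by ring)

theorem K_F {i j u l : ℤ} (h0 : ¬ (3 : ℤ) ∣ i ∨ ¬ (3 : ℤ) ∣ j ∨ ¬ (3 : ℤ) ∣ u ∨ ¬ (3 : ℤ) ∣ l)
    (h : K i (j + i) u (l + 2 * u)) : K i j u l := by
  refine ⟨0, ci_conj F ?_⟩
  obtain ⟨m, hm⟩ := F_co i j u l 0
  rw [hm]
  exact ci_of_K (by omega) h m

/-! ### the known ones -/

theorem K_AC (i u : ℤ) : K i 0 u 0 := by
  refine ⟨0, ci_of_conj V_ord ?_⟩
  rw [V_nf, neg_zero]

theorem K_BD (j l : ℤ) : K 0 j 0 l := by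
  refine ⟨0, ci_of_conj SV_ord ?_⟩
  have h1 : (S * V) * nf W A B C₁ D 0 j 0 l 0 * (S * V)⁻¹ = S * (V * nf W A B C₁ D 0 j 0 l 0 * V⁻¹) * S⁻¹ := by group
  rw [h1, V_nf, S_nf]
  simp

theorem K3 : K 0 1 1 0 := ⟨0, by simpa [nf] using ci3⟩
theorem K4 : K 1 1 1 0 := ⟨0, by simpa [nf, mul_assoc] using ci4⟩
theorem K5 : K 2 1 1 0 := ⟨0, by
  have h : nf W A B C₁ D 2 1 1 0 0 = A * (A * (B * C₁)) := by simp [nf, pow_two, mul_assoc]
  rw [h]; exact ci5⟩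
theorem K6 : K 1 0 0 1 := ⟨0, by simpa [nf] using ci6⟩

/-- `u = 1`, `l = 0` -/
theorem K_u1 (i j : ℤ) : K i j 1 0 := by
  have hj : (3 : ℤ) ∣ j - 0 ∨ (3 : ℤ) ∣ j - 1 ∨ (3 : ℤ) ∣ -j - 1 := by omega
  have hi : (3 : ℤ) ∣ i - 0 ∨ (3 : ℤ) ∣ i - 1 ∨ (3 : ℤ) ∣ i - 2 := by omega
  have key : ∀ j : ℤ, (3 : ℤ) ∣ j - 1 → K i j 1 0 := by
    intro j hj
    rcases hi with hi | hi | hi
    · exact K_cast K3 hi hj (by norm_num) (by norm_num)
    · exact K_cast K4 hi hj (by norm_num) (by norm_num)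
    · exact K_cast K5 hi hj (by norm_num) (by norm_num)
  rcases hj with h | h | h
  · exact K_cast (K_AC i 1) (by simp) h (by norm_num) (by norm_num)
  · exact key j h
  · exact K_V (by simpa using key _ h)

theorem K_u1' (i j l : ℤ) : K i j 1 l := by
  have hl : (3 : ℤ) ∣ l - 0 ∨ (3 : ℤ) ∣ (l + 2 * 1) - 0 ∨ (3 : ℤ) ∣ (l + 2 * 1 + 2 * 1) - 0 := by omega
  have h0 : ∀ j l : ℤ, (3 : ℤ) ∣ l - 0 → K i j 1 l := fun j l h => K_cast (K_u1 i j) (by simp) (by simp) (by norm_num) h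
  rcases hl with h | h | h
  · exact h0 _ _ h
  · exact K_F (by norm_num) (h0 _ _ h)
  · exact K_F (by norm_num) (K_F (by norm_num) (h0 _ _ h))

/-- `u = 0`, `i = 1` -/
theorem K_i1 (j l : ℤ) : K 1 j 0 l := by
  have hl : (3 : ℤ) ∣ l - 0 ∨ (3 : ℤ) ∣ l - 1 ∨ (3 : ℤ) ∣ -l - 1 := by omega
  have hj : (3 : ℤ) ∣ j - 0 ∨ (3 : ℤ) ∣ (j + 1) - 0 ∨ (3 : ℤ) ∣ (j + 1 + 1) - 0 := by omega
  have h1 : ∀ l : ℤ, K 1 0 0 l := by
    intro l
    have hl : (3 : ℤ) ∣ l - 0 ∨ (3 : ℤ) ∣ l - 1 ∨ (3 : ℤ) ∣ -l - 1 := by omega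
    rcases hl with h | h | h
    · exact K_cast (K_AC 1 0) (by norm_num) (by norm_num) (by norm_num) h
    · exact K_cast K6 (by norm_num) (by norm_num) (by norm_num) h
    · exact K_V (K_cast K6 (by norm_num) (by norm_num) (by norm_num) h)
  have h0 : ∀ j l : ℤ, (3 : ℤ) ∣ j - 0 → K 1 j 0 l := fun j l h => K_cast (h1 l) (by norm_num) h (by norm_num) (by simp)
  rcases hj with h | h | h
  · exact h0 _ _ h
  · exact K_F (by norm_num) (h0 _ _ h)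
  · exact K_F (by norm_num) (K_F (by norm_num) (h0 _ _ h))

theorem K_all (i j u l : ℤ) : K i j u l := by
  have hu : (3 : ℤ) ∣ u - 0 ∨ (3 : ℤ) ∣ u - 1 ∨ (3 : ℤ) ∣ -u - 1 := by omega
  have hi : (3 : ℤ) ∣ i - 0 ∨ (3 : ℤ) ∣ i - 1 ∨ (3 : ℤ) ∣ -i - 1 := by omega
  rcases hu with h | h | h
  · rcases hi with h' | h' | h'
    · exact K_cast (K_BD j l) h' (by simp) h (by simp)
    · exact K_cast (K_i1 j l) h' (by simp) h (by simp)
    · refine K_neg (K_cast (K_i1 (-j) (-l)) h' (by simp) ?_ (by simp))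
      have : -u - 0 = -(u - 0) := by ring
      rw [this]; exact (dvd_neg).2 h
  · exact K_cast (K_u1' i j l) (by simp) (by simp) h (by simp)
  · exact K_neg (K_cast (K_u1' (-i) (-j) (-l)) (by simp) (by simp) h (by simp))

theorem ci_Q {x : Spor.HN} (hx : x ∈ ext.Q) : CI x := by
  obtain ⟨i, j, u, l, m, rfl⟩ := hx
  by_cases h : ¬ (3 : ℤ) ∣ i ∨ ¬ (3 : ℤ) ∣ j ∨ ¬ (3 : ℤ) ∣ u ∨ ¬ (3 : ℤ) ∣ l
  · exact ci_of_K h (K_all i j u l) m
  · push Not at h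
    obtain ⟨hi, hj, hc, hl⟩ := h
    obtain ⟨n, hn⟩ := mem_zpowers_iff.1 (ext.nf_mem_zpowers (m := m) hi hj hc hl)
    rw [← hn]
    refine ci_of_conj S_ord ?_
    rw [← conj_zpow, S_W]

/-! ### the coset of `F` -/

theorem cube_conj (g : Spor.HN) {x : Spor.HN} (h : x ^ 3 = 1) : (g * x * g⁻¹) ^ 3 = 1 := by
  rw [conj_pow, h, mul_one, mul_inv_cancel]

theorem W_pow_ne {e : ℤ} (h : ¬ (3 : ℤ) ∣ e) : W ^ e ≠ 1 := by
  intro h1
  have h2 := orderOf_dvd_iff_zpow_eq_one.2 h1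
  rw [ext.hw] at h2
  exact h (by exact_mod_cast h2)

/-- the cube of `q F` -/
theorem cube_eq (q q' q'' : Spor.HN) (h1 : F * q * F⁻¹ = q') (h2 : F * q' * F⁻¹ = q'') : (q * F) ^ 3 = q * q' * q'' := by
  have h3 : F * F * F = 1 := by
    have := e_f3
    simpa [pow_succ, mul_assoc] using this
  calc (q * F) ^ 3 = q * (F * q * F⁻¹) * (F * (F * q * F⁻¹) * F⁻¹) * (F * F * F) := by
        simp only [pow_succ, pow_zero]; group
    _ = q * q' * q'' := by rw [h1, h2, h3, mul_one]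

theorem F_W' (m : ℤ) : F * W ^ m * F⁻¹ = W ^ m := by rw [← conj_zpow, F_W]

theorem W_nf (m : ℤ) : W ^ m = nf W A B C₁ D 0 0 0 0 m := by simp [nf]

/-- `A W^m F` has order 9 -/
theorem cube_A (m : ℤ) : (nf W A B C₁ D 1 0 0 0 m * F) ^ 3 ≠ 1 := by
  have hA : A = nf W A B C₁ D 1 0 0 0 0 := by simp [nf]
  have hB : B = nf W A B C₁ D 0 1 0 0 0 := by simp [nf]
  have h1 : F * nf W A B C₁ D 1 0 0 0 m * F⁻¹ = nf W A B C₁ D 1 1 0 0 (1 + m) := by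
    have : nf W A B C₁ D 1 0 0 0 m = A * W ^ m := by simp [nf]
    rw [this]
    calc F * (A * W ^ m) * F⁻¹ = (F * A * F⁻¹) * (F * W ^ m * F⁻¹) := by group
      _ = _ := by rw [F_A, F_W', W_nf, ext.nf_mul]; congr 1; ring
  have h2 : F * nf W A B C₁ D 1 1 0 0 (1 + m) * F⁻¹ = nf W A B C₁ D 1 2 0 0 (2 + m) := by
    have : nf W A B C₁ D 1 1 0 0 (1 + m) = A * B * W ^ (1 + m) := by simp [nf]
    rw [this]
    calc F * (A * B * W ^ (1 + m)) * F⁻¹ = (F * A * F⁻¹) * (F * B * F⁻¹) * (F * W ^ (1 + m) * F⁻¹) := by group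
      _ = nf W A B C₁ D 1 1 0 0 1 * nf W A B C₁ D 0 1 0 0 0 * nf W A B C₁ D 0 0 0 0 (1 + m) := by
        rw [F_A, F_W', F_B, W_nf, ← hB]
      _ = _ := by rw [ext.nf_mul, ext.nf_mul]; congr 1; ring
  rw [cube_eq _ _ _ h1 h2, ext.nf_mul, ext.nf_mul]
  have h3 : nf W A B C₁ D (1 + 1 + 1) (0 + 1 + 2) (0 + 0 + 0) (0 + 0 + 0)
      (m + (1 + m) - 1 * 0 - 0 * 0 + (2 + m) - 1 * (0 + 1) - 0 * (0 + 0)) = W ^ (2 + 3 * m) := by
    rw [W_nf, nf_cast (i' := 0) (j' := 0) (u' := 0) (l' := 0) (by norm_num) (by norm_num) (by norm_num) (by norm_num)]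
    congr 1; ring
  rw [h3]
  exact W_pow_ne (by omega)

/-- `C₁ W^m F` has order 9 -/
theorem cube_C (m : ℤ) : (nf W A B C₁ D 0 0 1 0 m * F) ^ 3 ≠ 1 := by
  have hC : C₁ = nf W A B C₁ D 0 0 1 0 0 := by simp [nf]
  have hD : D = nf W A B C₁ D 0 0 0 1 0 := by simp [nf]
  have h1 : F * nf W A B C₁ D 0 0 1 0 m * F⁻¹ = nf W A B C₁ D 0 0 1 2 (2 + m) := by
    have : nf W A B C₁ D 0 0 1 0 m = C₁ * W ^ m := by simp [nf]
    rw [this]
    calc F * (C₁ * W ^ m) * F⁻¹ = (F * C₁ * F⁻¹) * (F * W ^ m * F⁻¹) := by group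
      _ = _ := by rw [F_C, F_W', W_nf, ext.nf_mul]; congr 1; ring
  have h2 : F * nf W A B C₁ D 0 0 1 2 (2 + m) * F⁻¹ = nf W A B C₁ D 0 0 1 4 (4 + m) := by
    have : nf W A B C₁ D 0 0 1 2 (2 + m) = C₁ * D * D * W ^ (2 + m) := by simp [nf, pow_two, mul_assoc]
    rw [this]
    calc F * (C₁ * D * D * W ^ (2 + m)) * F⁻¹ =
          (F * C₁ * F⁻¹) * (F * D * F⁻¹) * (F * D * F⁻¹) * (F * W ^ (2 + m) * F⁻¹) := by group
      _ = nf W A B C₁ D 0 0 1 2 2 * nf W A B C₁ D 0 0 0 1 0 * nf W A B C₁ D 0 0 0 1 0 * nf W A B C₁ D 0 0 0 0 (2 + m) := by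
        rw [F_C, F_W', F_D, W_nf, ← hD]
      _ = _ := by rw [ext.nf_mul, ext.nf_mul, ext.nf_mul]; congr 1; ring
  rw [cube_eq _ _ _ h1 h2, ext.nf_mul, ext.nf_mul]
  have h3 : nf W A B C₁ D (0 + 0 + 0) (0 + 0 + 0) (1 + 1 + 1) (0 + 2 + 4)
      (m + (2 + m) - 0 * 0 - 1 * 0 + (4 + m) - 0 * (0 + 0) - 1 * (0 + 2)) = W ^ (4 + 3 * m) := by
    rw [W_nf, nf_cast (i' := 0) (j' := 0) (u' := 0) (l' := 0) (by norm_num) (by norm_num) (by norm_num) (by norm_num)]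
    congr 1; ring
  rw [h3]
  exact W_pow_ne (by omega)

theorem S_F0 (i u m : ℤ) : S * (nf W A B C₁ D i 0 u 0 m * F) * S⁻¹ = nf W A B C₁ D (-i) 0 (-u) 0 m * F := by
  calc S * (nf W A B C₁ D i 0 u 0 m * F) * S⁻¹ = (S * nf W A B C₁ D i 0 u 0 m * S⁻¹) * (S * F * S⁻¹) := by group
    _ = _ := by rw [S_nf, S_F, neg_zero]

/-- conjugation by powers of `B` -/
theorem B_F0 (i u m n : ℤ) : B ^ n * (nf W A B C₁ D i 0 u 0 m * F) * (B ^ n)⁻¹ = nf W A B C₁ D i 0 u 0 (m - n * i) * F := by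
  have h1 : F * (B ^ n)⁻¹ * F⁻¹ = (B ^ n)⁻¹ := by
    have : F * (B ^ n)⁻¹ * F⁻¹ = ((F * B * F⁻¹) ^ n)⁻¹ := by rw [conj_zpow]; group
    rw [this, F_B]
  have h2 : B ^ n = nf W A B C₁ D 0 n 0 0 0 := by simp [nf]
  have h3 : (B ^ n)⁻¹ = nf W A B C₁ D 0 (-n) 0 0 0 := by simp [nf]
  calc B ^ n * (nf W A B C₁ D i 0 u 0 m * F) * (B ^ n)⁻¹ =
      B ^ n * nf W A B C₁ D i 0 u 0 m * (F * (B ^ n)⁻¹ * F⁻¹) * F := by group
    _ = nf W A B C₁ D 0 n 0 0 0 * nf W A B C₁ D i 0 u 0 m * nf W A B C₁ D 0 (-n) 0 0 0 * F := by rw [h1, h3, h2]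
    _ = _ := by rw [ext.nf_mul, ext.nf_mul]; congr 1; congr 1 <;> ring

theorem ci_11 (m : ℤ) : CI (nf W A B C₁ D 1 0 1 0 m * F) := by
  apply ci_conj (B ^ m)
  rw [B_F0, mul_one, sub_self]
  have : nf W A B C₁ D 1 0 1 0 0 * F = A * (C₁ * F) := by simp [nf, mul_assoc]
  rw [this]
  exact ci1

theorem ci_12 (m : ℤ) : CI (nf W A B C₁ D 1 0 2 0 m * F) := by
  apply ci_conj (B ^ m)
  rw [B_F0, mul_one, sub_self]
  have : nf W A B C₁ D 1 0 2 0 0 * F = A * (C₁ * (C₁ * F)) := by simp [nf, pow_two, mul_assoc]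
  rw [this]
  exact ci2

theorem ci_F0 (i u m : ℤ) (h3 : (nf W A B C₁ D i 0 u 0 m * F) ^ 3 = 1) : CI (nf W A B C₁ D i 0 u 0 m * F) := by
  -- `i = 1`
  have h1 : ∀ i u m : ℤ, (3 : ℤ) ∣ i - 1 → (nf W A B C₁ D i 0 u 0 m * F) ^ 3 = 1 → CI (nf W A B C₁ D i 0 u 0 m * F) := by
    intro i u m hi h3
    have hu : (3 : ℤ) ∣ u - 0 ∨ (3 : ℤ) ∣ u - 1 ∨ (3 : ℤ) ∣ u - 2 := by omega
    rcases hu with hu | hu | hu
    · rw [nf_cast hi (show (3 : ℤ) ∣ 0 - 0 by simp) hu (show (3 : ℤ) ∣ 0 - 0 by simp)] at h3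
      exact absurd h3 (cube_A m)
    · rw [nf_cast hi (show (3 : ℤ) ∣ 0 - 0 by simp) hu (show (3 : ℤ) ∣ 0 - 0 by simp)]
      exact ci_11 m
    · rw [nf_cast hi (show (3 : ℤ) ∣ 0 - 0 by simp) hu (show (3 : ℤ) ∣ 0 - 0 by simp)]
      exact ci_12 m
  have hi : (3 : ℤ) ∣ i - 0 ∨ (3 : ℤ) ∣ i - 1 ∨ (3 : ℤ) ∣ -i - 1 := by omega
  rcases hi with hi | hi | hi
  · have hu : (3 : ℤ) ∣ u - 0 ∨ (3 : ℤ) ∣ u - 1 ∨ (3 : ℤ) ∣ -u - 1 := by omega
    rcases hu with hu | hu | hu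
    · rw [nf_cast hi (show (3 : ℤ) ∣ 0 - 0 by simp) hu (show (3 : ℤ) ∣ 0 - 0 by simp)]
      refine ci_of_conj S_ord ?_
      rw [S_F0, neg_zero]
    · rw [nf_cast hi (show (3 : ℤ) ∣ 0 - 0 by simp) hu (show (3 : ℤ) ∣ 0 - 0 by simp)] at h3
      exact absurd h3 (cube_C m)
    · have h4 := cube_conj S h3
      have hi' : (3 : ℤ) ∣ -i - 0 := by
        have : -i - 0 = -(i - 0) := by ring
        rw [this]; exact dvd_neg.2 hi
      rw [S_F0, nf_cast hi' (show (3 : ℤ) ∣ 0 - 0 by simp) hu (show (3 : ℤ) ∣ 0 - 0 by simp)] at h4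
      exact absurd h4 (cube_C m)
  · exact h1 i u m hi h3
  · apply ci_conj S
    have h4 := cube_conj S h3
    rw [S_F0] at h4 ⊢
    exact h1 _ _ m hi h4

theorem ci_F {q : Spor.HN} (hq : q ∈ ext.Q) (h3 : (q * F) ^ 3 = 1) : CI (q * F) := by
  obtain ⟨i, j, u, l, m, rfl⟩ := hq
  -- the exponent of `D`
  have hl : ∀ i u m l : ℤ, (nf W A B C₁ D i 0 u l m * F) ^ 3 = 1 → CI (nf W A B C₁ D i 0 u l m * F) := by
    intro i u m l h3
    have s0 : ∀ l m : ℤ, (3 : ℤ) ∣ l → (nf W A B C₁ D i 0 u l m * F) ^ 3 = 1 → CI (nf W A B C₁ D i 0 u l m * F) := by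
      intro l m h h3
      rw [nf_mod (j' := 0) (l' := 0) (by simp) (by simpa using h)] at h3 ⊢
      exact ci_F0 i u m h3
    have s2 : ∀ l m : ℤ, (3 : ℤ) ∣ l - 2 → (nf W A B C₁ D i 0 u l m * F) ^ 3 = 1 → CI (nf W A B C₁ D i 0 u l m * F) := by
      intro l m h h3
      apply ci_conj C₁
      have h4 := cube_conj C₁ h3
      obtain ⟨m', hm⟩ := conj_C i 0 u l m
      rw [hm] at h4 ⊢
      exact s0 _ _ h h4
    have h5 : (3 : ℤ) ∣ l ∨ (3 : ℤ) ∣ l - 2 ∨ (3 : ℤ) ∣ (l - 2) - 2 := by omega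
    rcases h5 with h | h | h
    · exact s0 l m h h3
    · exact s2 l m h h3
    · apply ci_conj C₁
      have h4 := cube_conj C₁ h3
      obtain ⟨m', hm⟩ := conj_C i 0 u l m
      rw [hm] at h4 ⊢
      exact s2 _ _ h h4
  have s0 : ∀ j m : ℤ, (3 : ℤ) ∣ j → (nf W A B C₁ D i j u l m * F) ^ 3 = 1 → CI (nf W A B C₁ D i j u l m * F) := by
    intro j m h h3
    rw [nf_mod (j' := 0) (l' := l) (by simpa using h) (by simp)] at h3 ⊢
    exact hl i u m l h3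
  have s1 : ∀ j m : ℤ, (3 : ℤ) ∣ j - 1 → (nf W A B C₁ D i j u l m * F) ^ 3 = 1 → CI (nf W A B C₁ D i j u l m * F) := by
    intro j m h h3
    apply ci_conj A
    have h4 := cube_conj A h3
    obtain ⟨m', hm⟩ := conj_A i j u l m
    rw [hm] at h4 ⊢
    exact s0 _ _ h h4
  have h5 : (3 : ℤ) ∣ j ∨ (3 : ℤ) ∣ j - 1 ∨ (3 : ℤ) ∣ (j - 1) - 1 := by omega
  rcases h5 with h | h | h
  · exact s0 j m h h3
  · exact s1 j m h h3
  · apply ci_conj A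
    have h4 := cube_conj A h3
    obtain ⟨m', hm⟩ := conj_A i j u l m
    rw [hm] at h4 ⊢
    exact s1 _ _ h h4

theorem ci_P {x : Spor.HN} (hx : x ∈ P) (hx3 : x ^ 3 = 1) : CI x := by
  obtain ⟨q, hq, s, rfl⟩ := hx
  have h3 : (3 : ℤ) ∣ s - 0 ∨ (3 : ℤ) ∣ s - 1 ∨ (3 : ℤ) ∣ s - (-1) := by omega
  rcases h3 with h | h | h
  · rw [zpow_eq e_f3 h, zpow_zero, mul_one]
    exact ci_Q hq
  · rw [zpow_eq e_f3 h, zpow_one] at hx3 ⊢
    exact ci_F hq hx3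
  · rw [zpow_eq e_f3 h, zpow_neg_one] at hx3 ⊢
    have h2 : F * q⁻¹ * F⁻¹ * F = (q * F⁻¹)⁻¹ := by group
    have h1 := ci_F (F_Q _ (inv_mem hq)) (by rw [h2, inv_pow, hx3, inv_one])
    rw [h2] at h1
    exact ci_inv h1

/-- **elements of order 3 of the Harada-Norton group commute with an involution** -/
theorem comm_inv {a : Spor.HN} (ha : a ^ 3 = 1) : ∃ t : Spor.HN, orderOf t = 2 ∧ t * a = a * t := by
  have : Finite Spor.HN := Nat.finite_of_card_ne_zero (by rw [card_HN]; norm_num)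
  have h1 : IsPGroup 3 (zpowers a) := by
    rintro ⟨_, m, rfl⟩
    refine ⟨1, Subtype.ext ?_⟩
    change (a ^ m) ^ 3 ^ 1 = 1
    rw [← zpow_natCast, ← zpow_mul, mul_comm, zpow_mul, zpow_natCast, pow_one, ha, one_zpow]
  obtain ⟨Q, hQ⟩ := h1.exists_le_sylow
  obtain ⟨x, hx⟩ := MulAction.exists_smul_eq Spor.HN Q (isPGroup_P.toSylow index_P)
  have h2 : (Q : Subgroup Spor.HN).map (MulAut.conj x).toMonoidHom = P := by
    have := congrArg (fun S : Sylow 3 Spor.HN => (S : Subgroup Spor.HN)) hx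
    exact this
  have h3 : x * a * x⁻¹ ∈ P := by
    rw [← h2]
    exact ⟨a, hQ (mem_zpowers a), rfl⟩
  exact ci_conj x (ci_P h3 (cube_conj x ha))

end Cfsg.Agent.H728.Four.HN3C
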