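import Cfsg.Agent.H529.Inv.Pair
import Cfsg.Agent.J3Type.CharTools

/-!
# S4171, the value of the characters at an element `a k`: `a` of an exact rational prime order `p`, `k` of order 3 (helper728)

`C(a) = ⟨a⟩ × K`, `|N(⟨a⟩) : C(a)| = p - 1`, `k ∈ K` of order 3, real in `K`, `|C_K(k)| = 3`, all elements of order 3 of `K`
conjugate. Then `|χ (a k)| ≤ 1` for all irreducible characters `χ` (`norm_le_one`).
-/

set_option autoImplicit false

namespace Cfsg.Agent.H728.Four.Val

open Cfsg Subgroup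
open Cfsg.Agent.Characters Cfsg.Agent.Characters.Core
open Cfsg.Agent.SmallSimple.ThetaSetup Cfsg.Agent.SmallSimple.ThetaOrtho
open Cfsg.Agent.SmallSimple.TheoremC Cfsg.Agent.SmallSimple.TheoremCCor
open Cfsg.Agent.SmallSimple.PrimeDual
open Cfsg.Agent.H65.Ore (one1 one1_apply)
open scoped ComplexConjugate

universe u

/-! ### A real self-centralizing element of order 3 -/

section three

variable {K : Type u} [Group K] [Finite K]

theorem int_three {k : K} (hk : orderOf k = 3) (hr : IsConj k k⁻¹) (θ : IrrCharacter K) :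
    ∃ z : ℤ, (θ : K → ℂ) k = z := by
  refine J3Type.CharTools.int_of_conj (isIrr_isCharacter θ.2) k fun m hm => ?_
  rw [hk] at hm
  have h1 : m % 3 = 1 ∨ m % 3 = 2 := by
    have : ¬ 3 ∣ m := fun h => by
      have := Nat.eq_one_of_dvd_coprimes hm.symm (dvd_refl 3) h
      omega
    omega
  have h2 : k ^ m = k ^ (m % 3) := by
    conv_lhs => rw [← pow_mod_orderOf, hk]
  rcases h1 with h | h
  · rw [h2, h, pow_one]
  · rw [h2, h]
    have h4 : k ^ 3 = 1 := by rw [← hk]; exact pow_orderOf_eq_one k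
    have h3 : k ^ 2 = k⁻¹ := by
      rw [eq_inv_iff_mul_eq_one, ← pow_succ]
      exact h4
    rw [h3]
    exact hr

/-- the values at `k` are integers with sum of squares 3 and orthogonal to the degrees -/
theorem exists_val [Fintype (IrrCharacter K)] {k : K} (hk : orderOf k = 3)
    (hc : Nat.card (centralizer ({k} : Set K)) = 3) (hr : IsConj k k⁻¹) :
    ∃ f : IrrCharacter K → ℤ, (∀ θ : IrrCharacter K, (θ : K → ℂ) k = f θ) ∧ f (one1 K) = 1 ∧ ∑ θ, f θ ^ 2 = 3 ∧
      ∑ θ, f θ * charDegree (θ : K → ℂ) = 0 := by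
  classical
  choose f hf using fun θ : IrrCharacter K => int_three hk hr θ
  refine ⟨f, hf, ?_, ?_, ?_⟩
  · have h := hf (one1 K)
    rw [one1_apply] at h
    exact_mod_cast h.symm
  · have h := H686.CharKit.sum_normSq k
    rw [hc] at h
    have h1 : ((∑ θ, f θ ^ 2 : ℤ) : ℝ) = ((3 : ℕ) : ℝ) := by
      rw [← h]
      push_cast
      refine Finset.sum_congr rfl fun θ _ => ?_
      rw [hf, Complex.normSq_intCast, pow_two]
    exact_mod_cast h1
  · have h := H686.CharKit.col_orth k 1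
    rw [if_neg (fun h1 => by
      have h2 : k = 1 := by
        obtain ⟨c, hc⟩ := isConj_iff.1 h1
        rwa [conj_eq_one_iff] at hc
      rw [h2, orderOf_one] at hk
      omega)] at h
    have h1 : ((∑ θ, f θ * charDegree (θ : K → ℂ) : ℤ) : ℂ) = 0 := by
      rw [← h]
      push_cast
      refine Finset.sum_congr rfl fun θ _ => ?_
      rw [hf, ← H686.CharKit.charDegree_irr θ, map_natCast]
    exact_mod_cast h1

theorem norm_val {k : K} (hk : orderOf k = 3) (hc : Nat.card (centralizer ({k} : Set K)) = 3) (hr : IsConj k k⁻¹)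
    (θ : IrrCharacter K) : ‖(θ : K → ℂ) k‖ ≤ 1 := by
  classical
  have : Finite (IrrCharacter K) := finite_irr
  have := Fintype.ofFinite (IrrCharacter K)
  obtain ⟨f, hf, h1, h2, -⟩ := exists_val hk hc hr
  by_cases h : θ = one1 K
  · rw [h, one1_apply, norm_one]
  · have h3 : f (one1 K) ^ 2 + f θ ^ 2 ≤ 3 := by
      rw [← h2, ← Finset.sum_pair (f := fun θ => f θ ^ 2) (Ne.symm h)]
      exact Finset.sum_le_sum_of_subset_of_nonneg (Finset.subset_univ _) fun _ _ _ => sq_nonneg _
    rw [h1] at h3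
    have h4 : |f θ| ≤ 1 := by
      rw [abs_le]
      constructor <;> nlinarith
    rw [hf, Complex.norm_intCast]
    exact_mod_cast h4

theorem eq_of_same {k : K} (hk : orderOf k = 3) (hc : Nat.card (centralizer ({k} : Set K)) = 3) (hr : IsConj k k⁻¹)
    {θ θ' : IrrCharacter K} (h1 : θ ≠ one1 K) (h1' : θ' ≠ one1 K) (h0 : (θ : K → ℂ) k ≠ 0)
    (he : (θ' : K → ℂ) k = (θ : K → ℂ) k) (hd : charDegree (θ' : K → ℂ) = charDegree (θ : K → ℂ)) : θ' = θ := by
  classical
  by_contra hne
  have : Finite (IrrCharacter K) := finite_irr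
  have := Fintype.ofFinite (IrrCharacter K)
  obtain ⟨f, hf, f1, h2, h3⟩ := exists_val hk hc hr
  have hfe : f θ' = f θ := by
    rw [hf, hf] at he
    exact_mod_cast he
  have hf0 : f θ ≠ 0 := fun h => h0 (by rw [hf, h, Int.cast_zero])
  set s : Finset (IrrCharacter K) := {one1 K, θ, θ'} with hs
  have hsum : ∀ g : IrrCharacter K → ℤ, ∑ x ∈ s, g x = g (one1 K) + (g θ + g θ') := by
    intro g
    rw [hs, Finset.sum_insert (by simp [Ne.symm h1, Ne.symm h1']), Finset.sum_pair (Ne.symm hne)]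
  have hsplit : ∀ g : IrrCharacter K → ℤ, ∑ x, g x = ∑ x ∈ s, g x + ∑ x ∈ sᶜ, g x := fun g =>
    (Finset.sum_add_sum_compl s g).symm
  have h4 := h2
  rw [hsplit, hsum, f1, hfe] at h4
  have h5 : 0 ≤ ∑ x ∈ sᶜ, f x ^ 2 := Finset.sum_nonneg fun _ _ => sq_nonneg _
  have h6 : 1 ≤ f θ ^ 2 := by
    have := sq_nonneg (f θ)
    have h7 : f θ ^ 2 ≠ 0 := pow_ne_zero 2 hf0
    omega
  have h7 : ∑ x ∈ sᶜ, f x ^ 2 = 0 := by omega
  have h8 : ∀ x ∈ sᶜ, f x = 0 := by
    intro x hx
    have := (Finset.sum_eq_zero_iff_of_nonneg fun _ _ => sq_nonneg _).1 h7 x hx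
    exact pow_eq_zero_iff (two_ne_zero) |>.1 this
  rw [hsplit, hsum, f1, hfe, hd, Finset.sum_eq_zero fun x hx => by rw [h8 x hx, zero_mul]] at h3
  have h9 : charDegree (one1 K : K → ℂ) = 1 := by
    rw [H686.CharKit.charDegree_eq_one_iff]
    exact one1_apply 1
  rw [h9] at h3
  push_cast at h3
  omega

end three

/-! ### The values at `a k` -/

variable {G : Type u} [Group G] [Finite G] {p : ℕ} [hp : Fact p.Prime] {P : Sylow p G} {K : Subgroup G}

/-- the characters not vanishing at `k` are stable -/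
theorem stable (hK : IsComp p (P : Subgroup G) K) {k : K} (hk : orderOf k = 3)
    (hc : Nat.card (centralizer ({k} : Set K)) = 3) (hr : IsConj k k⁻¹)
    (hone : ∀ k' : K, orderOf k' = 3 → IsConj k' k) (θ : IrrCharacter K) (h0 : (θ : K → ℂ) k ≠ 0) (n : G)
    (hn : n ∈ normalizer ((P : Subgroup G) : Set G)) : tw (θ : K → ℂ) n = θ := by
  have hirr := isIrr_tw hK θ.2 hn
  have hk' : (⟨tw (θ : K → ℂ) n, hirr⟩ : IrrCharacter K) = θ ∨ tw (θ : K → ℂ) n = θ := by
    by_cases h1 : θ = one1 K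
    · right
      funext y
      rw [tw_apply hK _ hn, h1]
      rfl
    by_cases h2 : (⟨tw (θ : K → ℂ) n, hirr⟩ : IrrCharacter K) = one1 K
    · exfalso
      apply h1
      apply Subtype.ext
      have h3 : tw (θ : K → ℂ) n = (one1 K : K → ℂ) := congrArg Subtype.val h2
      have h4 : tw (tw (θ : K → ℂ) n) n⁻¹ = (θ : K → ℂ) := by
        rw [← tw_mul hK _ hn (inv_mem hn), mul_inv_cancel, tw_one]
      rw [← h4, h3]
      funext y
      rw [tw_apply hK _ (inv_mem hn)]
      rfl
    left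
    refine eq_of_same hk hc hr h1 h2 h0 ?_ ?_
    · change tw (θ : K → ℂ) n k = _
      rw [tw_apply hK _ hn]
      obtain ⟨c, hc'⟩ := isConj_iff.1 (hone ⟨n * k * n⁻¹, conj_mem hK hn k.2⟩ (by
        rw [← Subgroup.orderOf_coe]
        change orderOf (n * (k : G) * n⁻¹) = 3
        rw [← MulAut.conj_apply, MulEquiv.orderOf_eq, Subgroup.orderOf_coe, hk]))
      rw [← isIrr_isClassFunction θ.2 _ c, hc']
    · change charDegree (tw (θ : K → ℂ) n) = _
      unfold charDegree
      have h3 : tw (θ : K → ℂ) n 1 = (θ : K → ℂ) 1 := by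
        rw [tw_apply hK _ hn]
        refine congrArg (θ : K → ℂ) (Subtype.ext ?_)
        change n * (1 : G) * n⁻¹ = 1
        group
      rw [h3]
  rcases hk' with h | h
  · exact congrArg Subtype.val h
  · exact h

/-- **The values at `a k`.** -/
theorem norm_le_one (hK : IsComp p (P : Subgroup G) K) (hP : Nat.card P = p)
    (he : (centralizer ((P : Subgroup G) : Set G)).relIndex (normalizer ((P : Subgroup G) : Set G)) = p - 1)
    {a : P} (ha : a ≠ 1) {k : K} (hk : orderOf k = 3) (hc : Nat.card (centralizer ({k} : Set K)) = 3)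
    (hr : IsConj k k⁻¹) (hone : ∀ k' : K, orderOf k' = 3 → IsConj k' k) (χ : IrrCharacter G) :
    ‖(χ : G → ℂ) (a * k)‖ ≤ 1 := by
  classical
  by_cases h0 : (χ : G → ℂ) (a * k) = 0
  · rw [h0, norm_zero]; exact zero_le_one
  obtain ⟨θ, hθ, hθk⟩ := H529.Inv.Pair.exists_theta hK ha h0
  have : Finite (IrrCharacter K) := finite_irr
  have := Fintype.ofFinite (IrrCharacter K)
  have horb : orb P K (θ : K → ℂ) = {⟨θ, θ.2⟩} := orb_of_stable θ.2 fun n hn => stable hK hk hc hr hone θ hθk n hn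
  have hval : (χ : G → ℂ) (a * k) = part (θ : K → ℂ) (χ : G → ℂ) a * (θ : K → ℂ) k := by
    rw [sum_part (isIrr_isClassFunction χ.2) (fun y hy => hK.comm a.2 hy)]
    refine Finset.sum_eq_single θ (fun θ' _ hne => ?_) (fun h => absurd (Finset.mem_univ _) h)
    rw [part_eq_zero_of_not_mem_orb hK hP θ.2 hθ (by rw [horb, Finset.mem_singleton]; exact hne) ha, zero_mul]
  have hstab : Nat.card (stabAct hK (θ : K → ℂ)) = p - 1 := by
    have h := card_stabAct_mul_card_orb hK hP θ.2
    rw [horb, Finset.card_singleton, mul_one, he] at h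
    exact h
  obtain ⟨NE, X, ε, d, S, hB, -, hNE, hX, hε, hd, hval1, hvalX, -, -, -⟩ :=
    theoremC hK hP θ.2 hstab (mul_one (p - 1))
  have hpart : ‖part (θ : K → ℂ) (χ : G → ℂ) a‖ ≤ 1 := by
    rcases (hB χ).1 hθ with h | h
    · rw [hval1 χ h a ha]
      rcases hε χ h with h1 | h1 <;> rw [h1] <;> simp
    · obtain ⟨hSc, hS1, -, hSv⟩ := hvalX χ h
      rw [hSv a ha]
      have hfin := finite_dual hp.out hP
      have := Fintype.ofFinite (P →* ℂˣ)
      have hSu : S χ = Finset.univ.erase 1 := by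
        refine Finset.eq_of_subset_of_card_le (fun l hl => Finset.mem_erase.2 ⟨fun h => hS1 (h ▸ hl), Finset.mem_univ _⟩) ?_
        rw [hSc, Finset.card_erase_of_mem (Finset.mem_univ _), Finset.card_univ, ← Nat.card_eq_fintype_card,
          card_dual hp.out hP]
      have h1 := sum_dual_eq_zero hp.out hP ha
      rw [← Finset.add_sum_erase Finset.univ _ (Finset.mem_univ 1), ← hSu] at h1
      have h2 : (((1 : P →* ℂˣ) a : ℂˣ) : ℂ) = 1 := rfl
      rw [h2] at h1
      have h3 : ∑ l ∈ S χ, ((l a : ℂˣ) : ℂ) = -1 := by linear_combination h1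
      rw [h3]
      rcases hd with h4 | h4 <;> rw [h4] <;> simp
  rw [hval, norm_mul]
  exact mul_le_one₀ hpart (norm_nonneg _) (norm_val hk hc hr θ)

end Cfsg.Agent.H728.Four.Val
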