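import Cfsg.Agent.H728.Four.HNFive
import Cfsg.Agent.H253.Ore.HNTwentyFive

/-!
# S4171, row HN: the 5-elements of the Harada-Norton group are inverted by involutions (helper728)

`n = G k² G⁻¹` (an involution) inverts `a = A⁴ D³` (`chk`), so the elements `a ^ i n`, which invert the elements `C₁ ^ u F` of
order 25 and `W` (helper253), have square one.
-/

set_option autoImplicit false
set_option maxRecDepth 100000

namespace Cfsg.Agent.H728.Four.HN25

open Subgroup Cfsg Cfsg.Agent.H839.Rad.Ext Cfsg.Agent.H981.InvHN Cfsg.Agent.HN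
open Cfsg.Agent.Lib.PackMat Cfsg.Agent.Lib.PackMatGroup Cfsg.Agent.Lib.PackMatMul Cfsg.Agent.HN.RepData
open Cfsg.Agent.HN.Rep (L LG gens rho)
open Cfsg.Agent.H839.Rad.HN (prog R evF runG_getD runG_step rho_R W A B C₁ D F k G Gi ext e_fa1 e_fb1 e_fa2 e_fb2 FW e_kw
  A_eq F_eq W_ne e_w5 e_g)
open Cfsg.Agent.H854.Ore (SR)
open Cfsg.Agent.H728.Four.HN5 (u u_sq sr_pow sr_Q sr_W sr_WF)
open Cfsg.Agent.H253.Ore.HN25 (w12 w11 w10 w9 y8 y7 y6 y5 comm_y comm_a)

/-! ### the involutions -/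

/-- new steps -/
def new : List (ℕ × List ℕ) := [
  (4, [22, 22, 3]),
  (3, [3]),
  (0, [0]),
  (0, [44, 44, 44]),
  (0, [3]),
  (0, [0])]

/-- the equalities -/
def es : List (ℕ × ℕ) := [(0, 48)]

theorem chkN : Cfsg.Agent.H839.SegS.segS C new es [] [] Cfsg.Agent.H728.Four.HN5.MM [] = true := by decide +kernel

theorem sound : ∀ q ∈ es, (runG (prog1 ++ new) LG).getD q.1 1 = (runG (prog1 ++ new) LG).getD q.2 1 := by
  rw [runG_append]
  exact (Cfsg.Agent.H839.SegS.segS_sound (good_of_check Rep.good) Cfsg.Agent.H728.Four.HN5.pc chkN (by decide +kernel)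
    (fun i hi => absurd hi List.not_mem_nil) (by decide +kernel)).2.1

/-- results -/
noncomputable def T (i : ℕ) : Cfsg.Spor.HN := (runG (prog1 ++ new) gens).getD i 1

theorem rho_T (i : ℕ) : rho (T i) = (runG (prog1 ++ new) LG).getD i 1 := by
  unfold T
  rw [← Rep.gens_map, runG_map, List.getD_eq_getElem?_getD, List.getD_eq_getElem?_getD, List.getElem?_map]
  cases (runG (prog1 ++ new) gens)[i]? with
  | none => simp
  | some b => simp

theorem eqT {i j : ℕ} (h : (i, j) ∈ es) : T i = T j := by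
  have := Cfsg.Agent.S1701.result.1
  apply A12Group.rho_injective
  rw [rho_T, rho_T]
  exact sound (i, j) h

theorem T_old (j : ℕ) : T (6 + j) = R (66 + j) := by
  have h1 : prog = prog1 ++ prog.drop 43 := by rfl
  have h4 : (prog.drop 43).length = 66 := rfl
  have e1 : T (6 + j) = (runG prog1 gens).getD j 1 := by
    unfold T
    rw [runG_append]
    exact runG_getD new _ j
  have e2 : R (66 + j) = (runG prog1 gens).getD j 1 := by
    unfold R
    conv_lhs => rw [h1, runG_append, ← h4]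
    exact runG_getD _ _ j
  rw [e1, e2]

theorem stepT {i : ℕ} {w : List ℕ} (hi : i < (prog1 ++ new).length)
    (hw : (((prog1 ++ new).reverse.getD i (0, [])).1 :: ((prog1 ++ new).reverse.getD i (0, [])).2) = w) :
    T i = evF (fun m => T (i + 1 + m)) w := by
  rw [← hw]
  exact runG_step (prog1 ++ new) gens i hi

theorem t_one : T 48 = 1 := (T_old 42).trans Cfsg.Agent.H839.Rad.HN.one_eq
theorem tA : T 8 = A := T_old 2
theorem tD : T 47 = D := T_old 41
theorem tG : T 10 = G := T_old 4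
theorem tGi : T 9 = Gi := T_old 3
theorem tk : T 28 = k := T_old 22

/-- the involution `n` -/
noncomputable def n : Spor.HN := G * (k * (k * Gi))
/-- the inverted element -/
noncomputable def a : Spor.HN := A * A * (A * A) * (D * (D * D))

theorem t5 : T 5 = n := by
  have h := stepT (i := 5) (w := [4, 22, 22, 3]) (by decide) (by rfl)
  simp only [evF, mul_one] at h
  rw [show (5 + 1 + 4 : ℕ) = 10 from rfl, show (5 + 1 + 22 : ℕ) = 28 from rfl, show (5 + 1 + 3 : ℕ) = 9 from rfl, tG, tk,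
    tGi] at h
  exact h

theorem t4 : T 4 = A * A := by
  have h := stepT (i := 4) (w := [3, 3]) (by decide) (by rfl)
  simp only [evF, mul_one] at h
  rwa [show (4 + 1 + 3 : ℕ) = 8 from rfl, tA] at h

theorem t3 : T 3 = A * A * (A * A) := by
  have h := stepT (i := 3) (w := [0, 0]) (by decide) (by rfl)
  simp only [evF, mul_one] at h
  rwa [show (3 + 1 + 0 : ℕ) = 4 from rfl, t4] at h

theorem t2 : T 2 = a := by
  have h := stepT (i := 2) (w := [0, 44, 44, 44]) (by decide) (by rfl)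
  simp only [evF, mul_one] at h
  rw [show (2 + 1 + 0 : ℕ) = 3 from rfl, show (2 + 1 + 44 : ℕ) = 47 from rfl, t3, tD] at h
  exact h

theorem t1 : T 1 = a * n := by
  have h := stepT (i := 1) (w := [0, 3]) (by decide) (by rfl)
  simp only [evF, mul_one] at h
  rwa [show (1 + 1 + 0 : ℕ) = 2 from rfl, show (1 + 1 + 3 : ℕ) = 5 from rfl, t2, t5] at h

theorem an_sq : a * n * (a * n) = 1 := by
  have h := stepT (i := 0) (w := [0, 0]) (by decide) (by rfl)
  simp only [evF, mul_one] at h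
  rw [show (0 + 1 + 0 : ℕ) = 1 from rfl, t1, eqT (i := 0) (j := 48) (by decide), t_one] at h
  exact h.symm

theorem Gi_eq : Gi = G⁻¹ := (inv_eq_of_mul_eq_one_right e_g).symm

theorem n_sq : n * n = 1 := by
  have h : u * u = 1 := u_sq
  unfold u at h
  unfold n
  rw [Gi_eq]
  calc G * (k * (k * G⁻¹)) * (G * (k * (k * G⁻¹))) = G * (k * k * (k * k)) * G⁻¹ := by group
    _ = 1 := by rw [h]; group

theorem n_a : n * a * n = a⁻¹ := by
  rw [eq_inv_iff_mul_eq_one]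
  calc n * a * n * a = a⁻¹ * (a * n * (a * n)) * a := by group
    _ = 1 := by rw [an_sq]; group

theorem pow_sq (i : ℕ) : a ^ i * n * (a ^ i * n) = 1 := by
  have h : n * a ^ i * n = (a ^ i)⁻¹ := by
    have hn : n⁻¹ = n := inv_eq_of_mul_eq_one_left n_sq
    have h1 : n * a ^ i * n⁻¹ = (n * a * n⁻¹) ^ i := (conj_pow).symm
    rw [hn, n_a, inv_pow] at h1
    exact h1
  calc a ^ i * n * (a ^ i * n) = a ^ i * (n * a ^ i * n) := by group
    _ = 1 := by rw [h, mul_inv_cancel]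

/-! ### the elements of helper253 -/

theorem T13_eq : H253.Ore.HN25.T 13 = a := by
  rw [H253.Ore.HN25.t13, H253.Ore.HN25.t14, H253.Ore.HN25.t15, H253.Ore.HN25.tA, H253.Ore.HN25.tD]
  simp only [mul_one]
  rfl

theorem T16_eq : H253.Ore.HN25.T 16 = n := by
  rw [H253.Ore.HN25.t16, H253.Ore.HN25.tG, H253.Ore.HN25.tk, H253.Ore.HN25.tGi, mul_one]
  rfl

theorem T12_eq : H253.Ore.HN25.T 12 = a ^ 1 * n := by
  rw [H253.Ore.HN25.t12, T13_eq, T16_eq, mul_one, pow_one]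

theorem T11_eq : H253.Ore.HN25.T 11 = a ^ 2 * n := by
  rw [H253.Ore.HN25.t11, T13_eq, T12_eq, mul_one, ← mul_assoc, ← pow_succ']

theorem T10_eq : H253.Ore.HN25.T 10 = a ^ 3 * n := by
  rw [H253.Ore.HN25.t10, T13_eq, T11_eq, mul_one, ← mul_assoc, ← pow_succ']

theorem T9_eq : H253.Ore.HN25.T 9 = a ^ 4 * n := by
  rw [H253.Ore.HN25.t9, T13_eq, T10_eq, mul_one, ← mul_assoc, ← pow_succ']

theorem sr_of {y b : Spor.HN} (hb : b * b = 1) (hy : y * (b * y) = b) (hW : W * (b * W) = b) (hc : Commute W y) (m : ℤ) :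
    SR (y * W ^ m) := by
  have h1 : b * y * b⁻¹ = y⁻¹ := by
    calc b * y * b⁻¹ = y⁻¹ * (y * (b * y)) * b⁻¹ := by group
      _ = y⁻¹ := by rw [hy]; group
  have h2 : b * W * b⁻¹ = W⁻¹ := by
    calc b * W * b⁻¹ = W⁻¹ * (W * (b * W)) * b⁻¹ := by group
      _ = W⁻¹ := by rw [hW]; group
  refine ⟨b, hb, ?_⟩
  have h3 : b * (y * W ^ m) * b⁻¹ = (b * y * b⁻¹) * (b * W ^ m * b⁻¹) := by group
  rw [h3, ← conj_zpow, h1, h2, inv_zpow, ← mul_inv_rev, (hc.zpow_left m).eq]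

/-- the representatives of order 25 -/
theorem sr_c {i : ℕ} (h1 : 1 ≤ i) (h4 : i ≤ 4) (m : ℤ) : SR (nf W A B C₁ D 0 0 i 0 m * F) := by
  have cF : Commute (W ^ m) F := (show Commute W F from FW.symm).zpow_left m
  have h2 : nf W A B C₁ D 0 0 i 0 m * F = C₁ ^ i * F * W ^ m := by
    simp only [nf, zpow_zero, one_mul, mul_one, zpow_natCast]
    rw [mul_assoc, cF.eq, ← mul_assoc]
  rw [h2]
  have e1 : H253.Ore.HN25.T 8 * (H253.Ore.HN25.T 12 * H253.Ore.HN25.T 8) = H253.Ore.HN25.T 12 := by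
    have h : H253.Ore.HN25.T 4 = H253.Ore.HN25.T 12 := H253.Ore.HN25.eqT (by decide)
    rwa [H253.Ore.HN25.t4, mul_one] at h
  have e2 : H253.Ore.HN25.T 7 * (H253.Ore.HN25.T 11 * H253.Ore.HN25.T 7) = H253.Ore.HN25.T 11 := by
    have h : H253.Ore.HN25.T 3 = H253.Ore.HN25.T 11 := H253.Ore.HN25.eqT (by decide)
    rwa [H253.Ore.HN25.t3, mul_one] at h
  have e3 : H253.Ore.HN25.T 6 * (H253.Ore.HN25.T 10 * H253.Ore.HN25.T 6) = H253.Ore.HN25.T 10 := by
    have h : H253.Ore.HN25.T 2 = H253.Ore.HN25.T 10 := H253.Ore.HN25.eqT (by decide)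
    rwa [H253.Ore.HN25.t2, mul_one] at h
  have e4 : H253.Ore.HN25.T 5 * (H253.Ore.HN25.T 9 * H253.Ore.HN25.T 5) = H253.Ore.HN25.T 9 := by
    have h : H253.Ore.HN25.T 1 = H253.Ore.HN25.T 9 := H253.Ore.HN25.eqT (by decide)
    rwa [H253.Ore.HN25.t1, mul_one] at h
  rw [y8] at e1
  rw [y7] at e2
  rw [y6] at e3
  rw [y5] at e4
  have hu : i = 1 ∨ i = 2 ∨ i = 3 ∨ i = 4 := by omega
  rcases hu with rfl | rfl | rfl | rfl
  · exact sr_of (by rw [T12_eq]; exact pow_sq 1) e1 w12 (comm_y 1) m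
  · exact sr_of (by rw [T11_eq]; exact pow_sq 2) e2 w11 (comm_y 2) m
  · exact sr_of (by rw [T10_eq]; exact pow_sq 3) e3 w10 (comm_y 3) m
  · exact sr_of (by rw [T9_eq]; exact pow_sq 4) e4 w9 (comm_y 4) m

theorem sr_conj {x : Spor.HN} (t : Spor.HN) (h : SR (t * x * t⁻¹)) : SR x := by
  have h2 := Cfsg.Agent.H529.Inv.Pair.SR.conj h t⁻¹
  have h3 : t⁻¹ * (t * x * t⁻¹) * t⁻¹⁻¹ = x := by group
  rwa [h3] at h2

theorem move3 (g v : ℕ) (h : ∀ m, SR (nv (mv2 g v) m * F)) : ∀ m, SR (nv v m * F) := by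
  intro m
  have key : ∀ (s : Spor.HN) (a0 a1 a2 a3 a4 s0 s1 s2 s3 : ℤ) (c0 c1 c2 c3 : ℕ),
      s⁻¹ = nf W A B C₁ D s0 s1 s2 s3 0 → F * s = nf W A B C₁ D a0 a1 a2 a3 a4 * F →
      (5 : ℤ) ∣ s0 + a0 - c0 → (5 : ℤ) ∣ s1 + a1 - c1 → (5 : ℤ) ∣ s2 + a2 - c2 → (5 : ℤ) ∣ s3 + a3 - c3 →
      (∀ m, SR (nv (en (d0 v + c0) (d1 v + c1) (d2 v + c2) (d3 v + c3)) m * F)) → SR (nv v m * F) := by
    intro s a0 a1 a2 a3 a4 s0 s1 s2 s3 c0 c1 c2 c3 hs hF h0 h1 h2 h3 hv
    apply sr_conj s⁻¹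
    obtain ⟨m', hm⟩ := step_F hs hF (d0 v) (d1 v) (d2 v) (d3 v) m
    rw [nv, hm]
    have h4 := hv m'
    rw [← nf_en] at h4
    rw [nf_mod (i' := ((d0 v + c0 : ℕ) : ℤ)) (j' := ((d1 v + c1 : ℕ) : ℤ)) (u' := ((d2 v + c2 : ℕ) : ℤ))
      (l' := ((d3 v + c3 : ℕ) : ℤ)) (by push_cast; omega) (by push_cast; omega) (by push_cast; omega)
      (by push_cast; omega)]
    exact h4
  rcases g with _ | _ | _ | g
  · exact key A _ _ _ _ _ (-1) 0 0 0 4 0 4 4 (by simp [nf]) e_fa1 (by norm_num) (by norm_num) (by norm_num) (by norm_num)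
      h
  · exact key B _ _ _ _ _ 0 (-1) 0 0 0 0 0 4 (by simp [nf]) e_fb1 (by norm_num) (by norm_num) (by norm_num) (by norm_num)
      h
  · exact key C₁ _ _ _ _ _ 0 0 (-1) 0 4 1 3 4 (by simp [nf]) e_fa2 (by norm_num) (by norm_num) (by norm_num)
      (by norm_num) h
  · exact key D _ _ _ _ _ 0 0 0 (-1) 4 0 4 3 (by simp [nf]) e_fb2 (by norm_num) (by norm_num) (by norm_num) (by norm_num)
      h

/-- the elements of the coset of `F` -/
theorem sr_F : ∀ v < 625, ∀ m, SR (nv v m * F) := by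
  intro v hv
  refine all_of_rank (P := fun v => ∀ m, SR (nv v m * F)) chk2 move3 ?_ _ v (Nat.lt_succ_self _) hv
    (fun h => absurd h (by decide))
  intro v hv m
  simp only [List.mem_cons, List.not_mem_nil, or_false] at hv
  have hc : ∀ u : ℕ, u < 5 → nv (25 * u) m = nf W A B C₁ D 0 0 u 0 m := by
    intro u hu
    rw [nv, d0e, d1e, d2e, d3e]
    apply nf_eq <;> omega
  rcases hv with rfl | rfl | rfl | rfl | rfl
  · have h0 : nv 0 m = W ^ m := by simp [nv, nf, d0e, d1e, d2e, d3e]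
    rw [h0]
    exact sr_WF m
  · rw [show (25 : ℕ) = 25 * 1 from rfl, hc 1 (by decide)]
    exact sr_c (by decide) (by decide) m
  · rw [show (50 : ℕ) = 25 * 2 from rfl, hc 2 (by decide)]
    exact sr_c (by decide) (by decide) m
  · rw [show (75 : ℕ) = 25 * 3 from rfl, hc 3 (by decide)]
    exact sr_c (by decide) (by decide) m
  · rw [show (100 : ℕ) = 25 * 4 from rfl, hc 4 (by decide)]
    exact sr_c (by decide) (by decide) m

/-- the elements of `Q` -/
theorem sr_Q' {x : Spor.HN} (hx : x ∈ ext.Q) : SR x := by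
  obtain ⟨i, j, c, l, m, rfl⟩ := hx
  by_cases h : ¬ (5 : ℤ) ∣ i ∨ ¬ (5 : ℤ) ∣ j ∨ ¬ (5 : ℤ) ∣ c ∨ ¬ (5 : ℤ) ∣ l
  · exact sr_Q h m
  · push Not at h
    obtain ⟨hi, hj, hc, hl⟩ := h
    obtain ⟨e, he⟩ := mem_zpowers_iff.1 (ext.nf_mem_zpowers (m := m) hi hj hc hl)
    rw [← he]
    obtain ⟨t, ht, hW⟩ := sr_W
    exact ⟨t, ht, by rw [← conj_zpow, hW, inv_zpow]⟩

/-- **the 5-elements of HN are inverted by involutions** -/
theorem sr_five {g : Spor.HN} {n : ℕ} (hg : g ^ 5 ^ n = 1) : SR g := by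
  have : Fact (Nat.Prime 5) := ⟨by norm_num⟩
  have : Finite Spor.HN := Nat.finite_of_card_ne_zero (by rw [card_HN]; norm_num)
  have h1 : IsPGroup 5 (zpowers g) := by
    rintro ⟨_, m, rfl⟩
    refine ⟨n, Subtype.ext ?_⟩
    change (g ^ m) ^ 5 ^ n = 1
    rw [← zpow_natCast, ← zpow_mul, mul_comm, zpow_mul, zpow_natCast, hg, one_zpow]
  obtain ⟨Q, hQ⟩ := h1.exists_le_sylow
  obtain ⟨x, hx⟩ := MulAction.exists_smul_eq Spor.HN Q (isPGroup_P.toSylow index_P)
  have h2 : (Q : Subgroup Spor.HN).map (MulAut.conj x).toMonoidHom = P := by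
    have := congrArg (fun S : Sylow 5 Spor.HN => (S : Subgroup Spor.HN)) hx
    exact this
  have h3 : x * g * x⁻¹ ∈ P := by
    rw [← h2]
    exact ⟨g, hQ (mem_zpowers g), rfl⟩
  apply sr_conj x
  obtain ⟨q, hq, s, hs⟩ := h3
  rw [hs]
  by_cases h5 : (5 : ℤ) ∣ s
  · have h6 : F ^ s = 1 := by rw [zpow_eq F5 (i := s) (j := 0) (by simpa using h5), zpow_zero]
    rw [h6, mul_one]
    exact sr_Q' hq
  · obtain ⟨t, ht⟩ : ∃ t : ℕ, (5 : ℤ) ∣ s * t - 1 := by
      have h4 : s % 5 = 1 ∨ s % 5 = 2 ∨ s % 5 = 3 ∨ s % 5 = 4 := by omega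
      rcases h4 with h | h | h | h
      · exact ⟨1, by push_cast; omega⟩
      · exact ⟨3, by push_cast; omega⟩
      · exact ⟨2, by push_cast; omega⟩
      · exact ⟨4, by push_cast; omega⟩
    have ht5 : ¬ 5 ∣ t := by
      rintro ⟨r, rfl⟩
      push_cast at ht
      have h6 : (5 : ℤ) ∣ s * (5 * r) := ⟨s * r, by ring⟩
      have h7 := dvd_sub h6 ht
      simp at h7
    have hreal : SR ((q * F ^ s) ^ t) := by
      obtain ⟨q', hq', he⟩ := pow_form hq s t
      rw [he, zpow_eq F5 (i := s * t) (j := 1) ht, zpow_one]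
      obtain ⟨i, j, u, l, m, rfl⟩ := hq'
      obtain ⟨v, hv, he⟩ := exists_code i j u l m
      rw [he]
      exact sr_F v hv m
    -- back to `q F ^ s`
    have ho : (q * F ^ s) ^ 5 ^ n = 1 := by
      rw [← hs, conj_pow, hg, mul_one, mul_inv_cancel]
    have hcop : Nat.Coprime t (5 ^ n) :=
      Nat.Coprime.pow_right n (((Nat.Prime.coprime_iff_not_dvd Nat.prime_five).2 ht5).symm)
    generalize q * F ^ s = y at *
    have hcopo : Nat.Coprime t (orderOf y) := Nat.Coprime.coprime_dvd_right (orderOf_dvd_of_pow_eq_one ho) hcop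
    obtain ⟨e, he⟩ := exists_pow_eq_self_of_coprime hcopo
    rw [← he]
    exact sr_pow hreal e

end Cfsg.Agent.H728.Four.HN25
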