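import Cfsg.Agent.H728.Four.Val
import Cfsg.Agent.H845.HNSeven
import Cfsg.Agent.H981.Inv.HN
import Cfsg.Agent.H253.TwoComm.SporTool

/-!
# S4171, row HN: elements with a small centralizer are products of four involutions (helper728)

`Y = X7 · (3-cycle)` of order 21 (in `A12`) is inverted by an involution, `|C(Y)| = 21` and `|χ Y| ≤ 1` for all irreducible
characters `χ`, `χ Y = 0` if 7 divides `χ(1)`. If every nontrivial irreducible character has degree 133 or at least 760, then
`(21 - 1) (|C(g)| - 1) < 760²` shows that every `g` with `|C(g)| ≤ 28880` is a product of four involutions (`i4_of_small`).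
-/

set_option autoImplicit false
set_option maxRecDepth 100000

namespace Cfsg.Agent.H728.Four.HN21

open Cfsg Subgroup
open Cfsg.Agent.Characters Cfsg.Agent.Characters.Core
open Cfsg.Agent.SmallSimple.ThetaSetup Cfsg.Agent.SmallSimple.ThetaOrtho
open Cfsg.Agent.CpAutHN.Alt (Φ Φ_inj A12 cy)
open Cfsg.Agent.H845.HNSeven
open Cfsg.Agent.Lib.AltCarmichael (cyc cyc_mem)
open Cfsg.Agent.H854.Ore (SR)
open Cfsg.Agent.H777.Ore (I4)
open Equiv.Perm (mem_alternatingGroup)

instance fin_HN : Finite Spor.HN := Cfsg.Agent.H981.InvHN.fin_HN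

/-! ### The elements of order 3 of `A5` -/

/-- a 3-cycle -/
def c3 : A5 := ⟨cyc 3 0, cyc_mem 3 0 (by norm_num)⟩

theorem c3_isThree : (c3 : Equiv.Perm (Fin 5)).IsThreeCycle := by
  change (cyc 3 0).cycleType = {3}
  decide +kernel

theorem order_c3 : orderOf c3 = 3 := by
  have h := c3_isThree.orderOf
  rwa [Subgroup.orderOf_coe] at h

theorem three_of_order {a : A5} (h : orderOf a = 3) : (a : Equiv.Perm (Fin 5)).IsThreeCycle := by
  have h1 : orderOf (a : Equiv.Perm (Fin 5)) = 3 := by rw [Subgroup.orderOf_coe, h]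
  obtain ⟨n, hn⟩ := Equiv.Perm.cycleType_prime_order (σ := (a : Equiv.Perm (Fin 5))) (by rw [h1]; norm_num)
  have h2 := (a : Equiv.Perm (Fin 5)).sum_cycleType
  rw [hn, h1, Multiset.sum_replicate, smul_eq_mul] at h2
  have h3 : (a : Equiv.Perm (Fin 5)).support.card ≤ 5 := by
    have := (a : Equiv.Perm (Fin 5)).support.card_le_univ
    rwa [Fintype.card_fin] at this
  have h4 : n = 0 := by omega
  rw [h4, h1] at hn
  exact hn

theorem conj_A5 {a b : A5} (ha : orderOf a = 3) (hb : orderOf b = 3) : IsConj a b :=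
  alternatingGroup.isThreeCycle_isConj (by rw [Nat.card_fin]) (three_of_order ha) (three_of_order hb)

theorem card_A5 : Nat.card A5 = 60 := by
  rw [nat_card_alternatingGroup, Nat.card_fin]
  rfl

/-- `|C(c3)| = 3` -/
theorem card_cent_c3 : Nat.card (centralizer ({c3} : Set A5)) = 3 := by
  have h1 : Nat.card ↥(centralizer ({(c3 : Equiv.Perm (Fin 5))} : Set (Equiv.Perm (Fin 5)))) = 6 := by
    have hc : (c3 : Equiv.Perm (Fin 5)).cycleType = {3} := c3_isThree
    have h := Equiv.Perm.nat_card_centralizer (c3 : Equiv.Perm (Fin 5))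
    rw [hc] at h
    rw [h]
    decide +kernel
  set S := centralizer ({(c3 : Equiv.Perm (Fin 5))} : Set (Equiv.Perm (Fin 5))) with hS
  let f : centralizer ({c3} : Set A5) →* S :=
    { toFun := fun a => ⟨((a : A5) : Equiv.Perm (Fin 5)), mem_centralizer_singleton_iff.2
        (congrArg Subtype.val (mem_centralizer_singleton_iff.1 a.2))⟩
      map_one' := rfl
      map_mul' := fun _ _ => rfl }
  have hf : Function.Injective f := fun a b h => Subtype.ext (Subtype.ext (congrArg (fun x : S => (x : Equiv.Perm (Fin 5))) h))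
  have h2 : Nat.card (centralizer ({c3} : Set A5)) ∣ 6 := by
    rw [← h1]
    exact card_dvd_of_injective f hf
  have h3 : 3 ∣ Nat.card (centralizer ({c3} : Set A5)) := by
    rw [← order_c3]
    exact Subgroup.orderOf_dvd_natCard _ (mem_centralizer_singleton_iff.2 rfl)
  have h4 : Nat.card (centralizer ({c3} : Set A5)) ≠ 6 := by
    intro h
    -- `f` would be surjective
    have h5 : Function.Surjective f := by
      have : Finite S := Nat.finite_of_card_ne_zero (by rw [h1]; norm_num)
      exact ((Nat.bijective_iff_injective_and_card f).2 ⟨hf, by rw [h, h1]⟩).2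
    obtain ⟨a, ha⟩ := h5 ⟨Equiv.swap 1 2, mem_centralizer_singleton_iff.2 (by
      change Equiv.swap 1 2 * cyc 3 0 = cyc 3 0 * Equiv.swap 1 2
      decide +kernel)⟩
    have h6 : ((a : A5) : Equiv.Perm (Fin 5)) = Equiv.swap 1 2 := congrArg Subtype.val ha
    have h7 := (a : A5).2
    rw [h6, mem_alternatingGroup] at h7
    revert h7
    decide +kernel
  have h5 : Nat.card (centralizer ({c3} : Set A5)) ≤ 6 := Nat.le_of_dvd (by norm_num) h2
  obtain ⟨k, hk⟩ := h3
  have h6 : 0 < Nat.card (centralizer ({c3} : Set A5)) := Nat.card_pos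
  omega

/-! ### The element of order 21 -/

/-- the element of order 21 -/
noncomputable def Y : Spor.HN := X7 * Φ (ι c3)

/-- the inverting involution of `A12` -/
def tp : Equiv.Perm (Fin 12) := cy [1, 6] * cy [2, 5] * cy [3, 4] * cy [10, 11]

theorem tp_mem : tp ∈ alternatingGroup (Fin 12) := by rw [mem_alternatingGroup]; decide +kernel

theorem ι_c3 : ι c3 = q 0 := ι_cyc (i := 0) (by norm_num)

theorem Y_eq : Y = Φ (⟨c7, c7_mem⟩ * q 0) := by
  unfold Y X7
  rw [map_mul, ι_c3]

theorem tp_sq : tp * tp = 1 := by decide +kernel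
theorem tp_inv : tp * (c7 * qp 0) * tp⁻¹ = (c7 * qp 0)⁻¹ := by decide +kernel
theorem tp_c7 : tp * c7 ≠ c7 * tp := by decide +kernel

theorem sr_Y : SR Y := by
  have h1 : (⟨tp, tp_mem⟩ : A12) * ⟨tp, tp_mem⟩ = 1 := Subtype.ext tp_sq
  have h2 : (⟨tp, tp_mem⟩ : A12) * (⟨c7, c7_mem⟩ * q 0) * (⟨tp, tp_mem⟩ : A12)⁻¹ = ((⟨c7, c7_mem⟩ : A12) * q 0)⁻¹ :=
    Subtype.ext tp_inv
  refine ⟨Φ ⟨tp, tp_mem⟩, ?_, ?_⟩
  · rw [← map_mul, h1, map_one]
  · rw [Y_eq, ← map_mul, ← map_inv, ← map_mul, h2, map_inv]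

theorem card_HN : Nat.card Spor.HN = 273030912000000 := Cfsg.Agent.KFacts.HN.Classes.card_HN

theorem not_comm : ¬ IsMulCommutative Spor.HN := fun h =>
  H253.TC.not_comm_of_card (K := Spor.HN) card_HN (by norm_num) (p := 7) (by norm_num) (by norm_num) (by norm_num)
    fun a b => h.is_comm.comm a b

/-- the list of the pairs -/
def wl : List (ℕ × ℤ) := [(0, 0), (1, -6), (1, 1), (1, 8), (2, -12), (2, -5), (2, 2), (2, 9), (3, -18), (3, -4), (3, 3),
  (3, 10), (4, -10), (4, -3), (4, 4), (4, 18), (5, -9), (5, -2), (5, 5), (5, 12), (6, -8), (6, -1), (6, 6)]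

theorem num7 : H653.Sieve.numOK 273030912000000 7 60 6 1 wl 0 false = true := by decide +kernel

/-- **The values at `Y` and its centralizer.** -/
theorem facts : (∀ χ : IrrCharacter Spor.HN, ‖(χ : Spor.HN → ℂ) Y‖ ≤ 1) ∧
    Nat.card (centralizer ({Y} : Set Spor.HN)) ≤ 21 ∧ 7 ∣ orderOf Y := by
  have : IsSimpleGroup Spor.HN := Cfsg.Agent.S1701.result.1
  have hp7 : Fact (Nat.Prime 7) := ⟨by norm_num⟩
  obtain ⟨P, K, hxP, hP, hK, hKc, he, -, hPx⟩ := H529.Inv.Pair.setup not_comm card_HN order_X7 card_cent 6 1 wl 0 false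
    num7
  have hCP : centralizer ((P : Subgroup Spor.HN) : Set Spor.HN) = centralizer ({X7} : Set Spor.HN) := by
    rw [hPx, SmallSimple.SelfCentPrime.centralizer_zpowers]
  have hmem : ∀ a : A5, Φ (ι a) ∈ K := by
    intro a
    rw [hK, hCP]
    refine ⟨(Ψ a).2, ?_⟩
    rw [orderOf_injective Φ Φ_inj, orderOf_injective ι ι_inj]
    intro h
    have h1 : 7 ∣ 60 := h.trans (by rw [← card_A5]; exact orderOf_dvd_natCard a)
    norm_num at h1
  let f : A5 →* K := (Φ.comp ι).codRestrict K hmem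
  have hf : Function.Injective f := fun a b h => by
    apply ι_inj
    apply Φ_inj
    exact congrArg Subtype.val h
  have hfin : Finite A5 := Nat.finite_of_card_ne_zero (by rw [card_A5]; norm_num)
  have hbij : Function.Bijective f := (Nat.bijective_iff_injective_and_card f).2 ⟨hf, by rw [card_A5, hKc]⟩
  let e : A5 ≃* K := MulEquiv.ofBijective f hbij
  let k : K := e c3
  have hk : orderOf k = 3 := by rw [← order_c3]; exact MulEquiv.orderOf_eq e c3
  have hone : ∀ a b : K, orderOf a = 3 → orderOf b = 3 → IsConj a b := by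
    intro a b ha hb
    have h1 : IsConj (e.symm a) (e.symm b) :=
      conj_A5 (by rw [MulEquiv.orderOf_eq, ha]) (by rw [MulEquiv.orderOf_eq, hb])
    have h2 := e.toMonoidHom.map_isConj h1
    simpa using h2
  have hck : Nat.card (centralizer ({k} : Set K)) = 3 := by
    rw [← card_cent_c3]
    refine (Nat.card_congr (e.toEquiv.subtypeEquiv fun a => ?_)).symm
    rw [mem_centralizer_singleton_iff, mem_centralizer_singleton_iff]
    change a * c3 = c3 * a ↔ e a * e c3 = e c3 * e a
    rw [← map_mul, ← map_mul, e.injective.eq_iff]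
  have hY : Y = X7 * (k : Spor.HN) := rfl
  have ha : (⟨X7, hxP⟩ : (P : Subgroup Spor.HN)) ≠ 1 := by
    intro h
    have h1 : X7 = 1 := congrArg Subtype.val h
    have h2 := order_X7
    rw [h1, orderOf_one] at h2
    omega
  have hcomm : Commute X7 (k : Spor.HN) := (mem_centralizer_singleton_iff.1 (Ψ c3).2).symm
  have hk3 : (k : Spor.HN) ^ 3 = 1 := by
    have h := pow_orderOf_eq_one k
    rw [hk] at h
    exact congrArg Subtype.val h
  have hx7 : X7 ^ 7 = 1 := by rw [← order_X7]; exact pow_orderOf_eq_one X7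
  have hY15 : Y ^ 15 = X7 := by
    rw [hY, hcomm.mul_pow, show (15 : ℕ) = 7 * 2 + 1 from rfl, pow_add, pow_mul, hx7, one_pow, one_mul, pow_one,
      show 7 * 2 + 1 = 3 * 5 from rfl, pow_mul, hk3, one_pow, mul_one]
  have hY7 : Y ^ 7 = (k : Spor.HN) := by
    rw [hY, hcomm.mul_pow, hx7, one_mul, show (7 : ℕ) = 3 * 2 + 1 from rfl, pow_add, pow_mul, hk3, one_pow, one_mul,
      pow_one]
  refine ⟨fun χ => ?_, ?_, ?_⟩
  · rw [hY]
    exact Val.norm_le_one (a := ⟨X7, hxP⟩) hK hP he ha hk hck (hone k k⁻¹ hk (by rw [orderOf_inv, hk]))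
      (fun k' hk' => hone k' k hk' hk) χ
  · -- the centralizer
    have hsurj : ∀ c : centralizer ({Y} : Set Spor.HN), ∃ t : ↥(P : Subgroup Spor.HN) × ↥(centralizer ({k} : Set K)),
        (t.1 : Spor.HN) * ((t.2 : K) : Spor.HN) = c := by
      intro c
      have hc := mem_centralizer_singleton_iff.1 c.2
      have hcY : Commute (c : Spor.HN) Y := hc
      have h1 : Commute (c : Spor.HN) X7 := by rw [← hY15]; exact hcY.pow_right 15
      have h2 : Commute (c : Spor.HN) (k : Spor.HN) := by rw [← hY7]; exact hcY.pow_right 7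
      have hcP : (c : Spor.HN) ∈ centralizer ((P : Subgroup Spor.HN) : Set Spor.HN) := by
        rw [hCP, mem_centralizer_singleton_iff]; exact h1
      obtain ⟨x, hx, y, hy, hxy⟩ := hK.exists_mul hP hcP
      refine ⟨(⟨x, hx⟩, ⟨⟨y, hy⟩, ?_⟩), hxy⟩
      rw [mem_centralizer_singleton_iff]
      apply Subtype.ext
      change y * (k : Spor.HN) = (k : Spor.HN) * y
      have h3 : Commute x (k : Spor.HN) := hK.comm hx k.2
      have h4 : y = x⁻¹ * c := by rw [← hxy]; group
      rw [h4]
      exact (Commute.mul_left h3.inv_left h2).eq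
    choose g hg using hsurj
    have hinj : Function.Injective g := fun a b h => Subtype.ext (by rw [← hg a, ← hg b, h])
    have h1 := Nat.card_le_card_of_injective g hinj
    rwa [Nat.card_prod, hck, hP] at h1
  · have h1 : orderOf (Y ^ 15) ∣ orderOf Y := orderOf_pow_dvd 15
    rwa [hY15, order_X7] at h1

/-- the hypothesis on the degrees -/
def Deg : Prop := ∀ χ : IrrCharacter Spor.HN, (χ : Spor.HN → ℂ) ≠ 1 →
  charDegree (χ : Spor.HN → ℂ) = 133 ∨ 760 ≤ charDegree (χ : Spor.HN → ℂ)

/-- **Elements with `|C(g)| ≤ 28880` are products of four involutions.** -/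
theorem i4_of_small (hdeg : Deg) {g : Spor.HN} (hg : Nat.card (centralizer ({g} : Set Spor.HN)) ≤ 28880) : I4 g := by
  obtain ⟨h1, h2, h3⟩ := facts
  refine H529.Inv.Pair.i4_pair sr_Y sr_Y (mx := 1) (cy := 21) (d := 760) (fun χ => ?_) h2 (fun χ hχ h0 _ => ?_)
    (c := 28880) (by norm_num) hg
  · have := h1 χ
    rw [Nat.cast_one]
    exact pow_le_one₀ (norm_nonneg _) this
  · rcases hdeg χ hχ with h | h
    · exfalso
      apply h0
      refine H529.Inv.Pair.van_dz χ (q := 7) (c := 1) (by norm_num) (by rw [card_HN]; norm_num) (by rw [card_HN]; norm_num)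
        (by rw [h]; norm_num) h3
    · exact h

end Cfsg.Agent.H728.Four.HN21
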