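import Cfsg.Agent.H728.Four.HNThree
import Cfsg.Agent.H728.Four.HNTwentyFive
import Cfsg.Agent.H728.Four.HNCent
import Cfsg.Agent.H728.Four.HNTwentyOne
import Cfsg.Agent.H704.Spor49.Harada
import Cfsg.Agent.H845.HNNineteen
import Cfsg.Agent.H547.SelfCent.Base

/-!
# S4171, row HN: every element of the Harada-Norton group is a product of four elements with square one (helper728)

`inv4_of` : from the degrees (`Deg`) and the centralizers of the elements of composite order without a power conjugate to `W0`.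
-/

set_option autoImplicit false

namespace Cfsg.Agent.H728.Four.HN

open Cfsg Subgroup
open Cfsg.Agent.HN.XWords (W0)
open Cfsg.Agent.H777.Ore (I4 Inv4)
open Cfsg.Agent.H854.Ore (SR)
open Cfsg.Agent.H728.Four.HN21 (Deg i4_of_small)

theorem card_HN : Nat.card Spor.HN = 273030912000000 := Cfsg.Agent.KFacts.HN.Classes.card_HN

instance fin_HN : Finite Spor.HN := Nat.finite_of_card_ne_zero (by rw [card_HN]; norm_num)

theorem i4_of_sr {G : Type*} [Group G] {x : G} (h : SR x) : I4 x := by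
  obtain ⟨u, v, hu, hv, e⟩ := h.two 1
  refine ⟨u, v, 1, 1, hu, hv, mul_one 1, mul_one 1, ?_⟩
  rw [mul_one, mul_one, ← e]
  group

/-- elements of prime order -/
theorem i4_prime (hdeg : Deg) {g : Spor.HN} (hp : (orderOf g).Prime) : I4 g := by
  have hd : orderOf g ∣ 273030912000000 := by
    rw [← card_HN]
    exact orderOf_dvd_natCard g
  have hd2 : orderOf g ∣ 2 ^ 14 * (3 ^ 6 * (5 ^ 6 * (7 * (11 * 19)))) := by
    refine hd.trans (dvd_of_eq ?_)
    norm_num
  have hc : orderOf g = 2 ∨ orderOf g = 3 ∨ orderOf g = 5 ∨ orderOf g = 7 ∨ orderOf g = 11 ∨ orderOf g = 19 := by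
    rcases hp.dvd_mul.1 hd2 with h | h
    · exact Or.inl ((Nat.prime_dvd_prime_iff_eq hp Nat.prime_two).1 (hp.dvd_of_dvd_pow h))
    rcases hp.dvd_mul.1 h with h | h
    · exact Or.inr (Or.inl ((Nat.prime_dvd_prime_iff_eq hp Nat.prime_three).1 (hp.dvd_of_dvd_pow h)))
    rcases hp.dvd_mul.1 h with h | h
    · exact Or.inr (Or.inr (Or.inl ((Nat.prime_dvd_prime_iff_eq hp Nat.prime_five).1 (hp.dvd_of_dvd_pow h))))
    rcases hp.dvd_mul.1 h with h | h
    · exact Or.inr (Or.inr (Or.inr (Or.inl ((Nat.prime_dvd_prime_iff_eq hp (by norm_num)).1 h))))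
    rcases hp.dvd_mul.1 h with h | h
    · exact Or.inr (Or.inr (Or.inr (Or.inr (Or.inl ((Nat.prime_dvd_prime_iff_eq hp (by norm_num)).1 h)))))
    · exact Or.inr (Or.inr (Or.inr (Or.inr (Or.inr ((Nat.prime_dvd_prime_iff_eq hp (by norm_num)).1 h)))))
  rcases hc with h | h | h | h | h | h
  · refine ⟨g, 1, 1, 1, ?_, mul_one 1, mul_one 1, mul_one 1, by rw [mul_one, mul_one, mul_one]⟩
    rw [← pow_two, ← h, pow_orderOf_eq_one]
  · exact i4_of_sr (HN3.sr_three (n := 1) (by rw [pow_one, ← h, pow_orderOf_eq_one]))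
  · exact i4_of_sr (HN25.sr_five (n := 1) (by rw [pow_one, ← h, pow_orderOf_eq_one]))
  · refine i4_of_small hdeg ?_
    rw [H547.SelfCent.card_cent_eq (r := 7) (by norm_num) (by rw [card_HN]; norm_num) h H845.HNSeven.order_X7,
      H845.HNSeven.card_cent]
    norm_num
  · refine i4_of_small hdeg ?_
    rw [H547.SelfCent.card_cent_eq (r := 11) (by norm_num) (by rw [card_HN]; norm_num) h H710.Spor.HNMix.orderOf_ψx,
      H704.Spor49.Harada.card_cent]
    norm_num
  · obtain ⟨x19, hx19, hc19⟩ := H845.HNNineteen.hn_nineteen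
    refine i4_of_small hdeg ?_
    rw [H547.SelfCent.card_cent_eq (r := 19) (by norm_num) (by rw [card_HN]; norm_num) h hx19, hc19]
    norm_num

/-- **the row, from the degrees and the centralizers of the remaining elements of composite order** -/
theorem inv4_of (hdeg : Deg)
    (hC : ∀ g : Spor.HN, g ≠ 1 → ¬ (orderOf g).Prime → (∀ n : ℕ, ¬ IsConj (g ^ n) W0) →
      Nat.card (centralizer ({g} : Set Spor.HN)) ≤ 28880 ∨ orderOf g = 9 ∨ orderOf g = 25) : Inv4 Spor.HN := by
  intro g
  by_cases h1 : g = 1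
  · rw [h1]
    exact ⟨1, 1, 1, 1, mul_one 1, mul_one 1, mul_one 1, mul_one 1, by simp⟩
  by_cases hp : (orderOf g).Prime
  · exact i4_prime hdeg hp
  by_cases hW : ∃ n : ℕ, IsConj (g ^ n) W0
  · obtain ⟨n, hn⟩ := hW
    exact HNCent.i4_of_conj_W0 (fun g hg => i4_of_small hdeg hg) hn
  · push Not at hW
    rcases hC g h1 hp hW with h | h | h
    · exact i4_of_small hdeg h
    · exact i4_of_sr (HN3.sr_three (n := 2) (by rw [show 3 ^ 2 = 9 by norm_num, ← h, pow_orderOf_eq_one]))
    · exact i4_of_sr (HN25.sr_five (n := 2) (by rw [show 5 ^ 2 = 25 by norm_num, ← h, pow_orderOf_eq_one]))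

end Cfsg.Agent.H728.Four.HN
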