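import Cfsg.Agent.H981.Inv.HN
import Cfsg.Agent.H529.Inv.Pair

/-!
# S4171, row HN: the elements of order 5 of the Harada-Norton group are inverted by involutions (helper728)

`P = Q⟨F⟩` is a Sylow 5-subgroup, `Q = 5 ^ (1 + 4)` with centre `⟨W⟩`, generated by `A, B, C₁, D` (helper839, helper981).
`k ^ 2` is an involution which inverts `Q / ⟨W⟩` and centralizes `W` (`chk`, one kernel check in the 133-dimensional
representation), so it inverts an element of each coset `q ⟨W⟩`; for `q` in `Q` outside of `⟨W⟩` all elements of the coset are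
conjugate. `W = G A G⁻¹` and `W ^ m F = G (A ^ m D) G⁻¹` are conjugate to elements of `Q` outside of `⟨W⟩`.
-/

set_option autoImplicit false
set_option maxRecDepth 100000

namespace Cfsg.Agent.H728.Four.HN5

open Subgroup Cfsg Cfsg.Agent.H839.Rad.Ext Cfsg.Agent.H981.InvHN Cfsg.Agent.HN
open Cfsg.Agent.Lib.PackMat Cfsg.Agent.Lib.PackMatGroup Cfsg.Agent.Lib.PackMatMul Cfsg.Agent.HN.RepData
open Cfsg.Agent.HN.Rep (L LG gens rho)
open Cfsg.Agent.H839.Rad.HN (prog R evF runG_getD runG_step rho_R W A B C₁ D F k ext e_fa1 e_fb1 e_fa2 e_fb2 FW e_kw A_eq F_eq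
  W_ne e_w5)
open Cfsg.Agent.H854.Ore (SR)

/-! ### the involution -/

/-- new steps -/
def new : List (ℕ × List ℕ) := [
  (22, [22]),
  (0, [3, 0, 3]),
  (1, [21, 1, 21]),
  (2, [44, 2, 44]),
  (3, [22, 3, 22]),
  (40, [40]),
  (5, [5])]

/-- the equalities -/
def es : List (ℕ × ℕ) := [(0, 49), (1, 2), (3, 49), (4, 49), (5, 49)]

/-! The codes of the first results are those of the segments of helper839 (`H839.Rad.HN.Seg`). -/

open Cfsg.Agent.H839.SegS in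
theorem codeQ {i : ℕ} (h3 : i + 17 ∈ H839.Rad.HN.Seg.q3) :
    CodesR C ((runG prog1 LG).getD i 1) (get H839.Rad.HN.Seg.M3 (i + 17)) := by
  have h2 := PC.lift H839.Rad.HN.Seg.s3.1 H839.Rad.HN.Seg.w4 h3
  have h5 := runG_old H839.Rad.HN.Seg.w5 (runG H839.Rad.HN.Seg.w4 (runG H839.Rad.HN.Seg.w3 (runG H839.Rad.HN.Seg.w2 (runG H839.Rad.HN.Seg.w1 LG))))
    (i + 17 + H839.Rad.HN.Seg.w4.length)
  rw [← h5, ← H839.Rad.HN.Seg.run_eq, ← rho_R] at h2
  have h6 : i + 17 + H839.Rad.HN.Seg.w4.length + H839.Rad.HN.Seg.w5.length = 66 + i := by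
    have e4 : H839.Rad.HN.Seg.w4.length = 27 := rfl
    have e5 : H839.Rad.HN.Seg.w5.length = 22 := rfl
    omega
  rw [h6] at h2
  rwa [oldR]

theorem codeOne : CodesR C ((runG prog1 LG).getD 42 1) (oneM C) := by
  rw [oldR, show (66 + 42 : ℕ) = 108 from rfl, Cfsg.Agent.H839.Rad.HN.one_eq, map_one]
  exact codesR_one (good_of_check Rep.good) (by decide)

/-- the known positions after `prog1` -/
def ps : List ℕ := [2, 3, 4, 18, 19, 22, 35, 41, 42]

/-- the codes -/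
noncomputable def MM : List ℕ := [
  0, 0, Cfsg.Agent.H839.Rad.HNLit.mA, Cfsg.Agent.H839.Rad.HNLit.m8, Cfsg.Agent.H839.Rad.HNLit.m7, 0, 0, 0, 0, 
  0, 0, 0, 0, 0, 0, 0, 0, 0, Cfsg.Agent.H839.Rad.HNLit.mC, Cfsg.Agent.H839.Rad.HNLit.mB, 0, 0, 
  Cfsg.Agent.H839.Rad.HNLit.m6, 0, 0, 0, 0, 0, 0, 0, 0, 0, 0, 0, 0, Cfsg.Agent.H839.Rad.HNLit.mW, 0, 0, 0, 0, 
  0, Cfsg.Agent.H839.Rad.HNLit.mD, oneM C]

theorem chkM : (ps.all fun i => (Nat.beq i 42 && Nat.beq (oneM C) (get MM i)) ||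
    (H839.Rad.HN.Seg.q3.contains (i + 17) && Nat.beq (get H839.Rad.HN.Seg.M3 (i + 17)) (get MM i))) = true := by
  decide +kernel

theorem pc : Cfsg.Agent.H839.SegS.PC C ps (runG prog1 LG) MM := by
  intro i hi
  have h := List.all_eq_true.1 chkM i hi
  rw [Bool.or_eq_true, Bool.and_eq_true, Bool.and_eq_true] at h
  rcases h with ⟨h1, h2⟩ | ⟨h1, h2⟩
  · have h3 := Nat.eq_of_beq_eq_true h1
    have h4 := Nat.eq_of_beq_eq_true h2
    rw [← h4, h3]
    exact codeOne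
  · have h3 : i + 17 ∈ H839.Rad.HN.Seg.q3 := List.contains_iff_mem.1 h1
    have h4 := Nat.eq_of_beq_eq_true h2
    rw [← h4]
    exact codeQ h3

theorem chkN : Cfsg.Agent.H839.SegS.segS C new es [] [] MM [] = true := by decide +kernel

theorem sound : ∀ q ∈ es, (runG (prog1 ++ new) LG).getD q.1 1 = (runG (prog1 ++ new) LG).getD q.2 1 := by
  rw [runG_append]
  exact (Cfsg.Agent.H839.SegS.segS_sound (good_of_check Rep.good) pc chkN (by decide +kernel)
    (fun i hi => absurd hi List.not_mem_nil) (by decide +kernel)).2.1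

/-- results -/
noncomputable def T (i : ℕ) : Cfsg.Spor.HN := (runG (prog1 ++ new) gens).getD i 1

theorem rho_T (i : ℕ) : rho (T i) = (runG (prog1 ++ new) LG).getD i 1 := by
  unfold T
  rw [← Rep.gens_map, runG_map, List.getD_eq_getElem?_getD, List.getD_eq_getElem?_getD, List.getElem?_map]
  cases (runG (prog1 ++ new) gens)[i]? with
  | none => simp
  | some b => simp

theorem eqT {i j : ℕ} (h : (i, j) ∈ es) : T i = T j := by
  have := Cfsg.Agent.S1701.result.1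
  apply A12Group.rho_injective
  rw [rho_T, rho_T]
  exact sound (i, j) h

theorem T_old (j : ℕ) : T (7 + j) = R (66 + j) := by
  have h1 : prog = prog1 ++ prog.drop 43 := by rfl
  have h4 : (prog.drop 43).length = 66 := rfl
  have e1 : T (7 + j) = (runG prog1 gens).getD j 1 := by
    unfold T
    rw [runG_append]
    exact runG_getD new _ j
  have e2 : R (66 + j) = (runG prog1 gens).getD j 1 := by
    unfold R
    conv_lhs => rw [h1, runG_append, ← h4]
    exact runG_getD _ _ j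
  rw [e1, e2]

theorem stepT {i : ℕ} {w : List ℕ} (hi : i < (prog1 ++ new).length)
    (hw : (((prog1 ++ new).reverse.getD i (0, [])).1 :: ((prog1 ++ new).reverse.getD i (0, [])).2) = w) :
    T i = evF (fun m => T (i + 1 + m)) w := by
  rw [← hw]
  exact runG_step (prog1 ++ new) gens i hi

theorem t_one : T 49 = 1 := by
  rw [show (49 : ℕ) = 7 + 42 from rfl, T_old]
  exact Cfsg.Agent.H839.Rad.HN.one_eq

theorem t6 : T 6 = k * k := by
  have h := stepT (i := 6) (w := [22, 22]) (by decide) (by rfl)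
  simp only [evF, mul_one] at h
  rw [h, show (6 + 1 + 22 : ℕ) = 7 + 22 from rfl, T_old]
  rfl

theorem tA : T 9 = A := T_old 2
theorem tB : T 26 = B := T_old 19
theorem tC : T 25 = C₁ := T_old 18
theorem tD : T 48 = D := T_old 41
theorem tW : T 42 = W := T_old 35

/-- the involution -/
noncomputable def u : Spor.HN := k * k

theorem u_sq : u * u = 1 := by
  have h := stepT (i := 0) (w := [5, 5]) (by decide) (by rfl)
  simp only [evF, mul_one] at h
  rw [eqT (i := 0) (j := 49) (by decide), t_one] at h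
  rw [show (0 + 1 + 5 : ℕ) = 6 from rfl, t6] at h
  exact h.symm

theorem uA : u * A * (u * A) = 1 := by
  have h := stepT (i := 5) (w := [0, 3, 0, 3]) (by decide) (by rfl)
  simp only [evF, mul_one] at h
  rw [eqT (i := 5) (j := 49) (by decide), t_one, show (5 + 1 + 0 : ℕ) = 6 from rfl, t6,
    show (5 + 1 + 3 : ℕ) = 9 from rfl, tA] at h
  rw [h, mul_assoc]
  rfl

theorem uB : u * B * (u * B) = 1 := by
  have h := stepT (i := 4) (w := [1, 21, 1, 21]) (by decide) (by rfl)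
  simp only [evF, mul_one] at h
  rw [eqT (i := 4) (j := 49) (by decide), t_one, show (4 + 1 + 1 : ℕ) = 6 from rfl, t6,
    show (4 + 1 + 21 : ℕ) = 26 from rfl, tB] at h
  rw [h, mul_assoc]
  rfl

theorem uD : u * D * (u * D) = 1 := by
  have h := stepT (i := 3) (w := [2, 44, 2, 44]) (by decide) (by rfl)
  simp only [evF, mul_one] at h
  rw [eqT (i := 3) (j := 49) (by decide), t_one, show (3 + 1 + 2 : ℕ) = 6 from rfl, t6,
    show (3 + 1 + 44 : ℕ) = 48 from rfl, tD] at h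
  rw [h, mul_assoc]
  rfl

theorem uC : u * C₁ * (u * C₁) = W * W := by
  have h := stepT (i := 2) (w := [3, 22, 3, 22]) (by decide) (by rfl)
  have h' := stepT (i := 1) (w := [40, 40]) (by decide) (by rfl)
  simp only [evF, mul_one] at h h'
  rw [show (1 + 1 + 40 : ℕ) = 42 from rfl, tW] at h'
  rw [← eqT (i := 1) (j := 2) (by decide), h', show (2 + 1 + 3 : ℕ) = 6 from rfl, t6,
    show (2 + 1 + 22 : ℕ) = 25 from rfl, tC] at h
  rw [h, mul_assoc]
  rfl

theorem u_inv : u⁻¹ = u := inv_eq_of_mul_eq_one_left u_sq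

theorem uW : u * W = W * u := by
  have h : k * W = W * k := e_kw
  unfold u
  rw [mul_assoc, h, ← mul_assoc, h, mul_assoc]

theorem inv_of {a : Spor.HN} (h : u * a * (u * a) = 1) : u * a * u⁻¹ = a⁻¹ := by
  rw [u_inv]
  refine eq_inv_of_mul_eq_one_left ?_
  rw [mul_assoc]
  exact h

/-- the square -/
theorem conj_C : u * C₁ * u⁻¹ = C₁⁻¹ * (W * W) := by
  have h1 : u * C₁ * u = W * W * C₁⁻¹ := by
    rw [← uC]; group
  have h2 : Commute (W * W) C₁⁻¹ :=
    Commute.mul_left (Commute.inv_right ext.wc) (Commute.inv_right ext.wc)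
  rw [u_inv, h1, h2.eq]

/-- `u` inverts modulo `⟨W⟩` -/
theorem conj_u (i j c l m : ℤ) : ∃ e : ℤ, u * nf W A B C₁ D i j c l m * u⁻¹ = (nf W A B C₁ D i j c l m)⁻¹ * W ^ e := by
  have hC : (u * C₁ * u⁻¹) ^ c = C₁ ^ (-c) * W ^ (2 * c) := by
    rw [conj_C]
    have h2 : Commute C₁⁻¹ (W * W) :=
      (Commute.mul_left (Commute.inv_right ext.wc) (Commute.inv_right ext.wc)).symm
    rw [h2.mul_zpow, inv_zpow', ← pow_two, ← zpow_natCast, ← zpow_mul]
    norm_cast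
  have hW : u * W * u⁻¹ = W := by rw [uW, mul_inv_cancel_right]
  have h0 : u * nf W A B C₁ D i j c l m * u⁻¹ =
      (u * A * u⁻¹) ^ i * (u * B * u⁻¹) ^ j * (u * C₁ * u⁻¹) ^ c * (u * D * u⁻¹) ^ l * (u * W * u⁻¹) ^ m := by
    unfold nf
    simp only [conj_zpow]
    group
  have h1 : u * nf W A B C₁ D i j c l m * u⁻¹ = nf W A B C₁ D (-i) (-j) (-c) (-l) (2 * c + m) := by
    rw [h0, inv_of uA, inv_of uB, hC, inv_of uD, hW]
    have h3 : Commute (W ^ (2 * c)) (D ^ (-l)) := ((show Commute W D from ext.wd).zpow_zpow _ _)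
    unfold nf
    rw [inv_zpow', inv_zpow', inv_zpow', zpow_add]
    calc A ^ (-i) * B ^ (-j) * (C₁ ^ (-c) * W ^ (2 * c)) * D ^ (-l) * W ^ m
        = A ^ (-i) * B ^ (-j) * C₁ ^ (-c) * (W ^ (2 * c) * D ^ (-l)) * W ^ m := by group
      _ = A ^ (-i) * B ^ (-j) * C₁ ^ (-c) * (D ^ (-l) * W ^ (2 * c)) * W ^ m := by rw [h3.eq]
      _ = _ := by group
  refine ⟨m + (2 * c + m) - -i * j - -c * l, ?_⟩
  rw [h1, eq_inv_mul_iff_mul_eq, ext.nf_mul]
  simp [nf]

/-! ### elements inverted by an involution -/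

theorem sr_pow {x : Spor.HN} (h : SR x) (n : ℕ) : SR (x ^ n) := by
  obtain ⟨t, ht, hx⟩ := h
  exact ⟨t, ht, by rw [← conj_pow, hx, inv_pow]⟩

/-- the predicate -/
def V5 (x : Spor.HN) : Prop := x ^ 5 = 1 → SR x

theorem V5.of_pow {x : Spor.HN} (n : ℕ) (hn : n.Coprime 5) (h : V5 (x ^ n)) : V5 x := fun hx => by
  have h1 : SR (x ^ n) := h (by rw [← pow_mul, mul_comm, pow_mul, hx, one_pow])
  obtain ⟨m, hm⟩ : ∃ m : ℕ, (x ^ n) ^ m = x := by
    obtain ⟨m, -, hm⟩ := Nat.exists_mul_mod_eq_one_of_coprime hn (by norm_num)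
    refine ⟨m, ?_⟩
    rw [← pow_mul, ← Nat.div_add_mod (n * m) 5, hm, pow_add, pow_mul, hx, one_pow, one_mul, pow_one]
  rw [← hm]
  exact sr_pow h1 m

theorem V5.of_conj {x : Spor.HN} (t : Spor.HN) (h : V5 (t * x * t⁻¹)) : V5 x := fun hx => by
  have h1 := h (by rw [conj_pow, hx, mul_one, mul_inv_cancel])
  have h2 := Cfsg.Agent.H529.Inv.Pair.SR.conj h1 t⁻¹
  have h3 : t⁻¹ * (t * x * t⁻¹) * t⁻¹⁻¹ = x := by group
  rwa [h3] at h2

/-- an element of each coset -/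
theorem sr_coset (i j c l m : ℤ) : ∃ n : ℤ, SR (nf W A B C₁ D i j c l (m + n)) := by
  obtain ⟨e, he⟩ := conj_u i j c l m
  refine ⟨2 * e, u, u_sq, ?_⟩
  have h1 : nf W A B C₁ D i j c l (m + 2 * e) = nf W A B C₁ D i j c l m * W ^ (2 * e) := by
    unfold nf; rw [zpow_add]; group
  have hW : u * W * u⁻¹ = W := by rw [uW, mul_inv_cancel_right]
  have h2 : Commute (nf W A B C₁ D i j c l m) (W ^ (2 * e)) := by
    have h3 : W ^ (2 * e) = nf W A B C₁ D 0 0 0 0 (2 * e) := by simp [nf]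
    rw [h3]
    exact ext.comm_iff.2 (by norm_num)
  have h5 : W ^ (5 * e) = 1 := by
    rw [zpow_mul]
    have : W ^ (5 : ℤ) = W ^ 5 := by exact_mod_cast zpow_natCast W 5
    rw [this, e_w5, one_zpow]
  have h6 : u * (nf W A B C₁ D i j c l m * W ^ (2 * e)) * u⁻¹ =
      (u * nf W A B C₁ D i j c l m * u⁻¹) * (u * W * u⁻¹) ^ (2 * e) := by
    rw [conj_zpow]; group
  rw [h1, h6, he, hW, mul_assoc, ← zpow_add, mul_inv_rev, ← zpow_neg]
  have h7 : W ^ (e + 2 * e) = W ^ (-(2 * e)) := by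
    rw [← mul_inv_eq_one, ← zpow_neg, ← zpow_add, ← h5]
    congr 1
    ring
  rw [h7]
  have h8 : Commute (nf W A B C₁ D i j c l m)⁻¹ (W ^ (-(2 * e))) := by
    rw [zpow_neg]
    exact (h2.inv_inv)
  exact h8.eq

/-- the central part can be changed by conjugation -/
theorem conj_central {i j c l : ℤ} (h : ¬ (5 : ℤ) ∣ i ∨ ¬ (5 : ℤ) ∣ j ∨ ¬ (5 : ℤ) ∣ c ∨ ¬ (5 : ℤ) ∣ l) (m n : ℤ) :
    ∃ s : Spor.HN, s * nf W A B C₁ D i j c l m * s⁻¹ = nf W A B C₁ D i j c l (m + n) := by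
  -- an exponent
  have inv5 : ∀ a : ℤ, ¬ (5 : ℤ) ∣ a → ∃ t : ℤ, (5 : ℤ) ∣ t * a - 1 := by
    intro a ha
    have h4 : a % 5 = 1 ∨ a % 5 = 2 ∨ a % 5 = 3 ∨ a % 5 = 4 := by omega
    rcases h4 with h | h | h | h
    · exact ⟨1, by omega⟩
    · exact ⟨3, by omega⟩
    · exact ⟨2, by omega⟩
    · exact ⟨4, by omega⟩
  have key : ∃ s0 s1 s2 s3 : ℤ, (5 : ℤ) ∣ (s0 * j - i * s1 + s2 * l - c * s3) - 1 := by
    rcases h with h | h | h | h <;> obtain ⟨t, ht⟩ := inv5 _ h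
    · exact ⟨0, -t, 0, 0, by have : (0 * j - i * -t + 0 * l - c * 0) - 1 = t * i - 1 := by ring
                             rwa [this]⟩
    · exact ⟨t, 0, 0, 0, by have : (t * j - i * 0 + 0 * l - c * 0) - 1 = t * j - 1 := by ring
                            rwa [this]⟩
    · exact ⟨0, 0, 0, -t, by have : (0 * j - i * 0 + 0 * l - c * -t) - 1 = t * c - 1 := by ring
                             rwa [this]⟩
    · exact ⟨0, 0, t, 0, by have : (0 * j - i * 0 + t * l - c * 0) - 1 = t * l - 1 := by ring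
                            rwa [this]⟩
  obtain ⟨s0, s1, s2, s3, r, hr⟩ := key
  refine ⟨nf W A B C₁ D (n * s0) (n * s1) (n * s2) (n * s3) 0, ?_⟩
  rw [ext.nf_mul_comm, mul_assoc (W ^ _), mul_inv_cancel_right]
  have h1 : n * s0 * j - i * (n * s1) + n * s2 * l - c * (n * s3) = n + 5 * (n * r) := by
    linear_combination n * hr
  rw [h1]
  have h2 : ∀ e : ℤ, W ^ e = nf W A B C₁ D 0 0 0 0 e := fun e => by simp [nf]
  have h5 : W ^ (5 * (n * r)) = 1 := by
    rw [zpow_mul]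
    have : W ^ (5 : ℤ) = W ^ 5 := by exact_mod_cast zpow_natCast W 5
    rw [this, e_w5, one_zpow]
  rw [zpow_add, h5, mul_one, h2, ext.nf_mul]
  congr 1 <;> ring

/-- **The elements of `Q` outside of the centre.** -/
theorem sr_Q {i j c l : ℤ} (h : ¬ (5 : ℤ) ∣ i ∨ ¬ (5 : ℤ) ∣ j ∨ ¬ (5 : ℤ) ∣ c ∨ ¬ (5 : ℤ) ∣ l) (m : ℤ) :
    SR (nf W A B C₁ D i j c l m) := by
  obtain ⟨n, hn⟩ := sr_coset i j c l m
  obtain ⟨s, hs⟩ := conj_central h m n
  rw [← hs] at hn
  have h2 := Cfsg.Agent.H529.Inv.Pair.SR.conj hn s⁻¹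
  have h3 : s⁻¹ * (s * nf W A B C₁ D i j c l m * s⁻¹) * s⁻¹⁻¹ = nf W A B C₁ D i j c l m := by group
  rwa [h3] at h2

theorem sr_W : SR W := by
  have h1 : W = Cfsg.Agent.H839.Rad.HN.G * A * Cfsg.Agent.H839.Rad.HN.G⁻¹ := by rw [A_eq]; group
  rw [h1]
  apply Cfsg.Agent.H529.Inv.Pair.SR.conj
  have h2 : A = nf W A B C₁ D 1 0 0 0 0 := by simp [nf]
  rw [h2]
  exact sr_Q (Or.inl (by norm_num)) 0

theorem sr_WF (m : ℤ) : SR (W ^ m * F) := by
  have h1 : W = Cfsg.Agent.H839.Rad.HN.G * A * Cfsg.Agent.H839.Rad.HN.G⁻¹ := by rw [A_eq]; group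
  have h2 : W ^ m * F = Cfsg.Agent.H839.Rad.HN.G * nf W A B C₁ D m 0 0 1 0 * Cfsg.Agent.H839.Rad.HN.G⁻¹ := by
    conv_lhs => rw [h1, F_eq, conj_zpow]
    simp only [nf, zpow_zero, zpow_one, mul_one]
    group
  rw [h2]
  apply Cfsg.Agent.H529.Inv.Pair.SR.conj
  exact sr_Q (Or.inr (Or.inr (Or.inr (by norm_num)))) 0

/-! ### the coset of `F` -/

theorem move2 (g v : ℕ) (h : ∀ m, V5 (nv (mv2 g v) m * F)) : ∀ m, V5 (nv v m * F) := by
  intro m
  have key : ∀ (s : Spor.HN) (a0 a1 a2 a3 a4 s0 s1 s2 s3 : ℤ) (c0 c1 c2 c3 : ℕ),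
      s⁻¹ = nf W A B C₁ D s0 s1 s2 s3 0 → F * s = nf W A B C₁ D a0 a1 a2 a3 a4 * F →
      (5 : ℤ) ∣ s0 + a0 - c0 → (5 : ℤ) ∣ s1 + a1 - c1 → (5 : ℤ) ∣ s2 + a2 - c2 → (5 : ℤ) ∣ s3 + a3 - c3 →
      (∀ m, V5 (nv (en (d0 v + c0) (d1 v + c1) (d2 v + c2) (d3 v + c3)) m * F)) → V5 (nv v m * F) := by
    intro s a0 a1 a2 a3 a4 s0 s1 s2 s3 c0 c1 c2 c3 hs hF h0 h1 h2 h3 hv
    apply V5.of_conj s⁻¹
    obtain ⟨m', hm⟩ := step_F hs hF (d0 v) (d1 v) (d2 v) (d3 v) m
    rw [nv, hm]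
    have h4 := hv m'
    rw [← nf_en] at h4
    rw [nf_mod (i' := ((d0 v + c0 : ℕ) : ℤ)) (j' := ((d1 v + c1 : ℕ) : ℤ)) (u' := ((d2 v + c2 : ℕ) : ℤ))
      (l' := ((d3 v + c3 : ℕ) : ℤ)) (by push_cast; omega) (by push_cast; omega) (by push_cast; omega)
      (by push_cast; omega)]
    exact h4
  rcases g with _ | _ | _ | g
  · exact key A _ _ _ _ _ (-1) 0 0 0 4 0 4 4 (by simp [nf]) e_fa1 (by norm_num) (by norm_num) (by norm_num) (by norm_num)
      h
  · exact key B _ _ _ _ _ 0 (-1) 0 0 0 0 0 4 (by simp [nf]) e_fb1 (by norm_num) (by norm_num) (by norm_num) (by norm_num)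
      h
  · exact key C₁ _ _ _ _ _ 0 0 (-1) 0 4 1 3 4 (by simp [nf]) e_fa2 (by norm_num) (by norm_num) (by norm_num)
      (by norm_num) h
  · exact key D _ _ _ _ _ 0 0 0 (-1) 4 0 4 3 (by simp [nf]) e_fb2 (by norm_num) (by norm_num) (by norm_num) (by norm_num)
      h

/-- the elements of order 25 -/
theorem b5_c {u : ℕ} (h : (C₁ ^ u * F) ^ 5 ≠ 1) (m : ℤ) : V5 (nf W A B C₁ D 0 0 u 0 m * F) := by
  intro h1
  exfalso
  apply h
  have cF : Commute (W ^ m) F := (show Commute W F from FW.symm).zpow_left m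
  have cC : Commute (W ^ m) (C₁ ^ u) := ((show Commute W C₁ from ext.wc).zpow_left m).pow_right u
  have h2 : nf W A B C₁ D 0 0 u 0 m * F = C₁ ^ u * F * W ^ m := by
    simp only [nf, zpow_zero, one_mul, mul_one, zpow_natCast]
    rw [mul_assoc, cF.eq, ← mul_assoc]
  have h3 : Commute (C₁ ^ u * F) (W ^ m) := Commute.mul_left cC.symm cF.symm
  rw [h2, h3.mul_pow] at h1
  have h4 : (W ^ m) ^ 5 = 1 := by
    rw [← zpow_natCast, ← zpow_mul, mul_comm, zpow_mul, zpow_natCast, e_w5, one_zpow]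
  rwa [h4, mul_one] at h1

theorem goodF : ∀ v < 625, ∀ m, V5 (nv v m * F) := by
  intro v hv
  refine all_of_rank (P := fun v => ∀ m, V5 (nv v m * F)) chk2 move2 ?_ _ v (Nat.lt_succ_self _) hv
    (fun h => absurd h (by decide))
  intro v hv m
  simp only [List.mem_cons, List.not_mem_nil, or_false] at hv
  have hc : ∀ u : ℕ, u < 5 → nv (25 * u) m = nf W A B C₁ D 0 0 u 0 m := by
    intro u hu
    rw [nv, d0e, d1e, d2e, d3e]
    apply nf_eq <;> omega
  rcases hv with rfl | rfl | rfl | rfl | rfl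
  · have h0 : nv 0 m = W ^ m := by simp [nv, nf, d0e, d1e, d2e, d3e]
    rw [h0]
    exact fun _ => sr_WF m
  · rw [show (25 : ℕ) = 25 * 1 from rfl, hc 1 (by decide)]
    exact b5_c (by simpa only [pow_one] using T3.r_c1) m
  · rw [show (50 : ℕ) = 25 * 2 from rfl, hc 2 (by decide)]
    exact b5_c (by simpa only [pow_succ, pow_zero, one_mul, mul_assoc] using T3.r_c2) m
  · rw [show (75 : ℕ) = 25 * 3 from rfl, hc 3 (by decide)]
    refine b5_c ?_ m
    have h3 : C₁ ^ 3 * F = C₁ * (C₁ * (C₁ * F)) := by simp only [pow_succ, pow_zero, one_mul, mul_assoc]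
    rw [h3]
    exact T3.r_c3
  · rw [show (100 : ℕ) = 25 * 4 from rfl, hc 4 (by decide)]
    refine b5_c ?_ m
    have h3 : C₁ ^ 4 * F = C₁ * (C₁ * (C₁ * (C₁ * F))) := by simp only [pow_succ, pow_zero, one_mul, mul_assoc]
    rw [h3]
    exact T3.r_c4

/-- **The elements of order 5.** -/
theorem all_five (x : Spor.HN) (hx : orderOf x = 5) : SR x := by
  have : Fact (Nat.Prime 5) := ⟨by norm_num⟩
  have hx5 : x ^ 5 = 1 := by rw [← hx]; exact pow_orderOf_eq_one x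
  obtain ⟨g, hg⟩ := Cfsg.Agent.H478.RadHeis.exists_conj_mem isPGroup_P index_P hx5
  have hgx1 : g * x * g⁻¹ ≠ 1 := by
    intro h
    rw [conj_eq_one_iff] at h
    rw [h, orderOf_one] at hx
    omega
  suffices h : V5 (g * x * g⁻¹) from (V5.of_conj g h) hx5
  obtain ⟨q, hq, s, hs⟩ := hg
  rw [hs] at hgx1 ⊢
  by_cases h5 : (5 : ℤ) ∣ s
  · have h1 : F ^ s = 1 := by rw [zpow_eq F5 (i := s) (j := 0) (by simpa using h5), zpow_zero]
    rw [h1, mul_one] at hgx1 ⊢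
    obtain ⟨i, j, c, l, m, rfl⟩ := hq
    by_cases h : ¬ (5 : ℤ) ∣ i ∨ ¬ (5 : ℤ) ∣ j ∨ ¬ (5 : ℤ) ∣ c ∨ ¬ (5 : ℤ) ∣ l
    · exact fun _ => sr_Q h m
    · push Not at h
      obtain ⟨hi, hj, hc, hl⟩ := h
      obtain ⟨n, hn⟩ := mem_zpowers_iff.1 (ext.nf_mem_zpowers (m := m) hi hj hc hl)
      rw [← hn] at hgx1 ⊢
      have h3 : ¬ (5 : ℤ) ∣ n := fun h => hgx1 (by rw [zpow_eq e_w5 (i := n) (j := 0) (by simpa using h), zpow_zero])
      obtain ⟨t, ht, ht5⟩ : ∃ t : ℕ, (5 : ℤ) ∣ n * t - 1 ∧ t.Coprime 5 := by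
        have h4 : n % 5 = 1 ∨ n % 5 = 2 ∨ n % 5 = 3 ∨ n % 5 = 4 := by omega
        rcases h4 with h | h | h | h
        · exact ⟨1, by push_cast; omega, by norm_num⟩
        · exact ⟨3, by push_cast; omega, by norm_num⟩
        · exact ⟨2, by push_cast; omega, by norm_num⟩
        · exact ⟨4, by push_cast; omega, by norm_num⟩
      apply V5.of_pow t ht5
      rw [← zpow_natCast, ← zpow_mul, zpow_eq e_w5 (j := 1) ht, zpow_one]
      exact fun _ => sr_W
  · obtain ⟨t, ht, ht5⟩ : ∃ t : ℕ, (5 : ℤ) ∣ s * t - 1 ∧ t.Coprime 5 := by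
      have h4 : s % 5 = 1 ∨ s % 5 = 2 ∨ s % 5 = 3 ∨ s % 5 = 4 := by omega
      rcases h4 with h | h | h | h
      · exact ⟨1, by push_cast; omega, by norm_num⟩
      · exact ⟨3, by push_cast; omega, by norm_num⟩
      · exact ⟨2, by push_cast; omega, by norm_num⟩
      · exact ⟨4, by push_cast; omega, by norm_num⟩
    apply V5.of_pow t ht5
    obtain ⟨q', hq', he⟩ := pow_form hq s t
    rw [he, zpow_eq F5 (i := s * t) (j := 1) ht, zpow_one]
    obtain ⟨i, j, u, l, m, rfl⟩ := hq'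
    obtain ⟨v, hv, he⟩ := exists_code i j u l m
    rw [he]
    exact goodF v hv m

end Cfsg.Agent.H728.Four.HN5
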