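import Cfsg.Agent.H728.Four.HNRow
import Cfsg.Agent.H789.Ore.HNCent

/-!
# S4171, row HN: every element of the Harada-Norton group is a product of four elements with square one (helper728)
-/

set_option autoImplicit false

namespace Cfsg.Agent.H728.Four.HN

open Cfsg Subgroup
open Cfsg.Agent.H777.Ore (I4 Inv4)

/-- **row HN of S4171** -/
theorem four_HN {S : Type*} [Group S] (h : Spor.IsoHN S) : Inv4 S :=
  four_HN_of (fun _ hg => (H789.Ore.HNCent.card_fifteen hg).trans (by norm_num)) h

end Cfsg.Agent.H728.Four.HN
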