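import Cfsg.Agent.H728.Four.HN
import Cfsg.Agent.H175.Ore.HNDeg
import Cfsg.Agent.H789.Ore.HNComp
import Cfsg.Agent.H692.Ore.HNE

/-!
# S4171, row HN: assembly (helper728)

`four_HN_of` : from the centralizers of the elements of order divisible by 15.
-/

set_option autoImplicit false

namespace Cfsg.Agent.H728.Four.HN

open Cfsg Subgroup
open Cfsg.Agent.H777.Ore (I4 Inv4)

/-- helper175 -/
theorem deg : HN21.Deg := fun χ h1 => H175.Ore.HNDeg.deg_HN_eleven (S := Spor.HN) ⟨MulEquiv.refl _⟩ χ h1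

theorem inv4_iso {S T : Type*} [Group S] [Group T] (e : S ≃* T) (h : Inv4 T) : Inv4 S := by
  intro g
  obtain ⟨a, b, c, d, ha, hb, hc, hd, he⟩ := h (e g)
  refine ⟨e.symm a, e.symm b, e.symm c, e.symm d, ?_, ?_, ?_, ?_, ?_⟩
  · rw [← map_mul, ha, map_one]
  · rw [← map_mul, hb, map_one]
  · rw [← map_mul, hc, map_one]
  · rw [← map_mul, hd, map_one]
  · rw [← map_mul, ← map_mul, ← map_mul, ← he, e.symm_apply_apply]

theorem four_HN_of (h15 : ∀ g : Spor.HN, 15 ∣ orderOf g → Nat.card (centralizer ({g} : Set Spor.HN)) ≤ 10249)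
    {S : Type*} [Group S] (h : Spor.IsoHN S) : Inv4 S := by
  obtain ⟨e⟩ := h
  refine inv4_iso e (inv4_of deg fun g h1 hp hW => ?_)
  rcases H789.Ore.HNComp.cent_le_of (fun s hs => (H692.Ore.HNE.cent_le (Or.inl hs)).trans (by norm_num))
    (fun s hs => (H692.Ore.HNE.cent_le (Or.inr hs)).trans (by norm_num)) h15 g h1 hp hW with h | h | h
  · exact Or.inl (h.trans (by norm_num))
  · exact Or.inr (Or.inl h)
  · exact Or.inr (Or.inr h.1)

end Cfsg.Agent.H728.Four.HN
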