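import Cfsg.Agent.H285.Ccp.HNThree
import Cfsg.Agent.H529.Inv.Pair
import Cfsg.Agent.H687.EqD.EvFb

/-!
# S4171, row HN: the 3-elements of the Harada-Norton group are inverted by involutions (helper728)

`P = Q⟨F⟩`, `Q = 3 ^ (1 + 4)`, is the Sylow 3-subgroup of helper285; `S` inverts `Q` modulo the centre `⟨W⟩`, `V` inverts `W`.
`S` and `V` are commuting elements with square one (`chk`, one kernel check in the 133-dimensional representation).
-/

set_option autoImplicit false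
set_option maxRecDepth 100000

namespace Cfsg.Agent.H728.Four.HN3

open Subgroup Cfsg Cfsg.Agent.H839.Rad.Ext Cfsg.Agent.H285.ExtReal Cfsg.Agent.H285.HN3
open Cfsg.Agent.Lib.PackMat Cfsg.Agent.Lib.PackMatGroup Cfsg.Agent.Lib.PackMatMul Cfsg.Agent.HN.RepData
open Cfsg.Agent.HN.Rep (L LG gens rho)
open Cfsg.Agent.HN
open Cfsg.Agent.H854.Ore (SR)

/-! ### the involutions -/

/-- the first steps of the program of helper285 -/
def pre : List (ℕ × List ℕ) := [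
  (20, [21]),
  (9, [9]),
  (11, [11]),
  (10, [10]),
  (0, [12, 1, 11]),
  (9, [9]),
  (12, [12]),
  (1, [12, 0, 11]),
  (9, [9]),
  (12, [12]),
  (1, [12, 0, 11]),
  (6, [3, 0]),
  (7, [4]),
  (8, [8, 5]),
  (4, [20, 11, 17]),
  (17, [17]),
  (0, [21, 14, 18]),
  (8, [21, 13, 18]),
  (3, [1, 0]),
  (19, [19]),
  (29, [28, 27, 25, 18, 14, 27, 13, 29, 0]),
  (29, [17, 29, 26, 15, 26, 23, 12, 23, 1])]

/-- new steps -/
def new : List (ℕ × List ℕ) := [(1, [1]), (1, [1]), (3, [2]), (3, [4])]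

/-- the equalities -/
def es' : List (ℕ × ℕ) := [(0, 1), (2, 25), (3, 25)]

theorem chk' : checkS C (pre ++ new) es' [] Cfsg.Agent.HN.A12Step.L20 = true := by decide +kernel

theorem sound' : ∀ q ∈ es', (runG (pre ++ new) LG').getD q.1 1 = (runG (pre ++ new) LG').getD q.2 1 :=
  (checkS_sound (good_of_check Rep.good) A12.results chk' (by decide)).1

/-- results -/
noncomputable def T (i : ℕ) : Cfsg.Spor.HN := (runG (pre ++ new) gens').getD i 1

theorem rho_T (i : ℕ) : rho (T i) = (runG (pre ++ new) LG').getD i 1 := by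
  unfold T
  rw [← gens'_map, runG_map, List.getD_eq_getElem?_getD, List.getD_eq_getElem?_getD, List.getElem?_map]
  cases (runG (pre ++ new) gens')[i]? with
  | none => simp
  | some b => simp

theorem eqT {i j : ℕ} (h : (i, j) ∈ es') : T i = T j := by
  have := Cfsg.Agent.S1701.result.1
  apply A12Group.rho_injective
  rw [rho_T, rho_T]
  exact sound' (i, j) h

theorem runG_append {G : Type*} [Group G] (u v : List (ℕ × List ℕ)) (LG : List G) :
    runG (u ++ v) LG = runG v (runG u LG) := by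
  induction u generalizing LG with
  | nil => rfl
  | cons w u ih => rw [List.cons_append, runG_cons, runG_cons, ih]

theorem T_old (j : ℕ) : T (4 + j) = R (63 + j) := by
  have h1 : prog = pre ++ prog.drop 22 := by rfl
  have h4 : (prog.drop 22).length = 63 := rfl
  have e1 : T (4 + j) = (runG pre gens').getD j 1 := by
    unfold T
    rw [runG_append]
    exact runG_getD new _ j
  have e2 : R (63 + j) = (runG pre gens').getD j 1 := by
    unfold R
    conv_lhs => rw [h1, runG_append, ← h4]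
    exact runG_getD _ _ j
  rw [e1, e2]

theorem stepT {i : ℕ} {w : List ℕ} (hi : i < (pre ++ new).length)
    (hw : (((pre ++ new).reverse.getD i (0, [])).1 :: ((pre ++ new).reverse.getD i (0, [])).2) = w) :
    T i = evF (fun m => T (i + 1 + m)) w := by
  rw [← hw]
  exact runG_step (pre ++ new) gens' i hi

theorem t_one : T 25 = 1 := (T_old 21).trans one_eq
theorem tV : T 4 = V := T_old 0
theorem tS : T 5 = S := T_old 1

theorem S_sq : S * S = 1 := by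
  have h := stepT (i := 3) (w := [1, 1]) (by decide) (by rfl)
  simp only [evF, mul_one] at h
  rw [eqT (i := 3) (j := 25) (by decide), t_one, show (3 + 1 + 1 : ℕ) = 5 from rfl, tS] at h
  exact h.symm

theorem V_sq : V * V = 1 := by
  have h := stepT (i := 2) (w := [1, 1]) (by decide) (by rfl)
  simp only [evF, mul_one] at h
  rw [eqT (i := 2) (j := 25) (by decide), t_one, show (2 + 1 + 1 : ℕ) = 4 from rfl, tV] at h
  exact h.symm

theorem S_V : S * V = V * S := by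
  have h := stepT (i := 1) (w := [3, 2]) (by decide) (by rfl)
  have h' := stepT (i := 0) (w := [3, 4]) (by decide) (by rfl)
  simp only [evF, mul_one] at h h'
  rw [show (1 + 1 + 3 : ℕ) = 5 from rfl, tS, show (1 + 1 + 2 : ℕ) = 4 from rfl, tV] at h
  rw [show (0 + 1 + 3 : ℕ) = 4 from rfl, tV, show (0 + 1 + 4 : ℕ) = 5 from rfl, tS] at h'
  rw [← h, ← h']
  exact (eqT (i := 0) (j := 1) (by decide)).symm

theorem S_inv' : S⁻¹ = S := inv_eq_of_mul_eq_one_left S_sq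
theorem V_inv' : V⁻¹ = V := inv_eq_of_mul_eq_one_left V_sq

/-! ### `Q` -/

theorem sr_conj {x : Spor.HN} (t : Spor.HN) (h : SR (t * x * t⁻¹)) : SR x := by
  have h2 := Cfsg.Agent.H529.Inv.Pair.SR.conj h t⁻¹
  have h3 : t⁻¹ * (t * x * t⁻¹) * t⁻¹⁻¹ = x := by group
  rwa [h3] at h2

theorem w3z (e : ℤ) : W ^ (3 * e) = 1 := by
  rw [zpow_mul]
  have : W ^ (3 : ℤ) = W ^ 3 := by exact_mod_cast zpow_natCast W 3
  rw [this, e_w3, one_zpow]

/-- an element of each coset -/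
theorem sr_coset (i j c l m : ℤ) : ∃ n : ℤ, SR (nf W A B C₁ D i j c l (m + n)) := by
  obtain ⟨e, he⟩ := mem_zpowers_iff.1 (S_inv (nf W A B C₁ D i j c l m) (ext.nf_mem _ _ _ _ _))
  have he' : S * nf W A B C₁ D i j c l m * S⁻¹ = W ^ e * (nf W A B C₁ D i j c l m)⁻¹ := by
    rw [he]; group
  refine ⟨e, S, S_sq, ?_⟩
  have h1 : nf W A B C₁ D i j c l (m + e) = nf W A B C₁ D i j c l m * W ^ e := by
    unfold nf; rw [zpow_add]; group
  have hW : S * W * S⁻¹ = W := S_W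
  have h2 : Commute (nf W A B C₁ D i j c l m) (W ^ e) := by
    have h3 : W ^ e = nf W A B C₁ D 0 0 0 0 e := by simp [nf]
    rw [h3]
    exact ext.comm_iff.2 (by norm_num)
  have h6 : S * (nf W A B C₁ D i j c l m * W ^ e) * S⁻¹ =
      (S * nf W A B C₁ D i j c l m * S⁻¹) * (S * W * S⁻¹) ^ e := by
    rw [conj_zpow]; group
  rw [h1, h6, he', hW, mul_inv_rev, ← zpow_neg]
  have h8 : Commute (nf W A B C₁ D i j c l m)⁻¹ (W ^ e) := h2.inv_left
  rw [mul_assoc, h8.eq, ← mul_assoc, ← zpow_add]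
  congr 1
  have h9 : e + e = -e + 3 * e := by ring
  rw [h9, zpow_add, w3z, mul_one]

/-- the central part can be changed by conjugation -/
theorem conj_central {i j c l : ℤ} (h : ¬ (3 : ℤ) ∣ i ∨ ¬ (3 : ℤ) ∣ j ∨ ¬ (3 : ℤ) ∣ c ∨ ¬ (3 : ℤ) ∣ l) (m n : ℤ) :
    ∃ s : Spor.HN, s * nf W A B C₁ D i j c l m * s⁻¹ = nf W A B C₁ D i j c l (m + n) := by
  -- an exponent
  have inv3 : ∀ a : ℤ, ¬ (3 : ℤ) ∣ a → ∃ t : ℤ, (3 : ℤ) ∣ t * a - 1 := by
    intro a ha
    have h4 : a % 3 = 1 ∨ a % 3 = 2 := by omega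
    rcases h4 with h | h
    · exact ⟨1, by omega⟩
    · exact ⟨2, by omega⟩
  have key : ∃ s0 s1 s2 s3 : ℤ, (3 : ℤ) ∣ (s0 * j - i * s1 + s2 * l - c * s3) - 1 := by
    rcases h with h | h | h | h <;> obtain ⟨t, ht⟩ := inv3 _ h
    · exact ⟨0, -t, 0, 0, by have : (0 * j - i * -t + 0 * l - c * 0) - 1 = t * i - 1 := by ring
                             rwa [this]⟩
    · exact ⟨t, 0, 0, 0, by have : (t * j - i * 0 + 0 * l - c * 0) - 1 = t * j - 1 := by ring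
                            rwa [this]⟩
    · exact ⟨0, 0, 0, -t, by have : (0 * j - i * 0 + 0 * l - c * -t) - 1 = t * c - 1 := by ring
                             rwa [this]⟩
    · exact ⟨0, 0, t, 0, by have : (0 * j - i * 0 + t * l - c * 0) - 1 = t * l - 1 := by ring
                            rwa [this]⟩
  obtain ⟨s0, s1, s2, s3, r, hr⟩ := key
  refine ⟨nf W A B C₁ D (n * s0) (n * s1) (n * s2) (n * s3) 0, ?_⟩
  rw [ext.nf_mul_comm, mul_assoc (W ^ _), mul_inv_cancel_right]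
  have h1 : n * s0 * j - i * (n * s1) + n * s2 * l - c * (n * s3) = n + 3 * (n * r) := by
    linear_combination n * hr
  rw [h1]
  have h2 : ∀ e : ℤ, W ^ e = nf W A B C₁ D 0 0 0 0 e := fun e => by simp [nf]
  rw [zpow_add, w3z, mul_one, h2, ext.nf_mul]
  congr 1 <;> ring

theorem sr_Q {x : Spor.HN} (hx : x ∈ ext.Q) : SR x := by
  obtain ⟨i, j, c, l, m, rfl⟩ := hx
  by_cases h : ¬ (3 : ℤ) ∣ i ∨ ¬ (3 : ℤ) ∣ j ∨ ¬ (3 : ℤ) ∣ c ∨ ¬ (3 : ℤ) ∣ l
  · obtain ⟨n, hn⟩ := sr_coset i j c l m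
    obtain ⟨s, hs⟩ := conj_central h m n
    rw [← hs] at hn
    exact sr_conj s hn
  · push Not at h
    obtain ⟨hi, hj, hc, hl⟩ := h
    obtain ⟨n, hn⟩ := mem_zpowers_iff.1 (ext.nf_mem_zpowers (m := m) hi hj hc hl)
    rw [← hn]
    exact ⟨V, V_sq, by rw [← conj_zpow, V_W, inv_zpow]⟩

/-! ### the coset of `F` -/

theorem sr_F0 (i u m : ℤ) : SR (nf W A B C₁ D i 0 u 0 m * F) := by
  have cAC : Commute A C₁ := ext.ac
  have cWA : Commute W A := ext.wa
  have cWC : Commute W C₁ := ext.wc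
  have hA : (S * V) * A * (S * V)⁻¹ = A⁻¹ := by
    calc (S * V) * A * (S * V)⁻¹ = S * (V * A * V⁻¹) * S⁻¹ := by group
      _ = A⁻¹ := by rw [V_A, S_A]
  have hC : (S * V) * C₁ * (S * V)⁻¹ = C₁⁻¹ := by
    calc (S * V) * C₁ * (S * V)⁻¹ = S * (V * C₁ * V⁻¹) * S⁻¹ := by group
      _ = C₁⁻¹ := by rw [V_C, S_C]
  have hW' : (S * V) * W * (S * V)⁻¹ = W⁻¹ := by
    calc (S * V) * W * (S * V)⁻¹ = S * (V * W * V⁻¹) * S⁻¹ := by group
      _ = (S * W * S⁻¹)⁻¹ := by rw [V_W]; group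
      _ = W⁻¹ := by rw [S_W]
  have hF : (S * V) * F * (S * V)⁻¹ = F⁻¹ := by
    calc (S * V) * F * (S * V)⁻¹ = S * (V * F * V⁻¹) * S⁻¹ := by group
      _ = (S * F * S⁻¹)⁻¹ := by rw [V_F]; group
      _ = F⁻¹ := by rw [S_F]
  have h0 : nf W A B C₁ D i 0 u 0 m = A ^ i * C₁ ^ u * W ^ m := by simp [nf]
  have h1 : (S * V) * (A ^ i * C₁ ^ u * W ^ m) * (S * V)⁻¹ = (A ^ i * C₁ ^ u * W ^ m)⁻¹ := by
    calc (S * V) * (A ^ i * C₁ ^ u * W ^ m) * (S * V)⁻¹ =
        ((S * V) * A * (S * V)⁻¹) ^ i * ((S * V) * C₁ * (S * V)⁻¹) ^ u * ((S * V) * W * (S * V)⁻¹) ^ m := by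
          rw [conj_zpow, conj_zpow, conj_zpow]; group
      _ = (A ^ i)⁻¹ * (C₁ ^ u)⁻¹ * (W ^ m)⁻¹ := by rw [hA, hC, hW', inv_zpow, inv_zpow, inv_zpow]
      _ = (W ^ m)⁻¹ * ((C₁ ^ u)⁻¹ * (A ^ i)⁻¹) := by
          rw [((cWA.zpow_zpow m i).inv_inv.mul_right (cWC.zpow_zpow m u).inv_inv).eq.symm,
            ((cAC.zpow_zpow i u).inv_inv).eq]
      _ = _ := by rw [mul_inv_rev, mul_inv_rev]
  have hsq : (S * V) * (S * V) = 1 := by
    calc (S * V) * (S * V) = S * (V * S) * V := by group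
      _ = S * S * (V * V) := by rw [← S_V]; group
      _ = 1 := by rw [S_sq, V_sq, mul_one]
  rw [h0]
  refine ⟨F⁻¹ * (S * V), ?_, ?_⟩
  · have h3 : (S * V) * F⁻¹ = F * (S * V) := by
      have h4 : (S * V) * F⁻¹ * (S * V)⁻¹ = F := by
        calc (S * V) * F⁻¹ * (S * V)⁻¹ = ((S * V) * F * (S * V)⁻¹)⁻¹ := by group
          _ = F := by rw [hF, inv_inv]
      exact mul_inv_eq_iff_eq_mul.1 h4
    calc F⁻¹ * (S * V) * (F⁻¹ * (S * V)) = F⁻¹ * ((S * V) * F⁻¹) * (S * V) := by group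
      _ = (S * V) * (S * V) := by rw [h3]; group
      _ = 1 := hsq
  · calc F⁻¹ * (S * V) * (A ^ i * C₁ ^ u * W ^ m * F) * (F⁻¹ * (S * V))⁻¹ =
        F⁻¹ * ((S * V) * (A ^ i * C₁ ^ u * W ^ m) * (S * V)⁻¹) * ((S * V) * F * (S * V)⁻¹) * F := by group
      _ = F⁻¹ * (A ^ i * C₁ ^ u * W ^ m)⁻¹ := by rw [h1, hF, inv_mul_cancel_right]
      _ = _ := (mul_inv_rev _ _).symm

theorem sr_F {q : Spor.HN} (hq : q ∈ ext.Q) : SR (q * F) := by
  obtain ⟨i, j, u, l, m, rfl⟩ := hq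
  -- the exponent of `D`
  have hl : ∀ i u m l : ℤ, SR (nf W A B C₁ D i 0 u l m * F) := by
    intro i u m l
    have s0 : ∀ l m : ℤ, (3 : ℤ) ∣ l → SR (nf W A B C₁ D i 0 u l m * F) := by
      intro l m h
      rw [nf_mod (j' := 0) (l' := 0) (by simp) (by simpa using h)]
      exact sr_F0 i u m
    have s2 : ∀ l m : ℤ, (3 : ℤ) ∣ l - 2 → SR (nf W A B C₁ D i 0 u l m * F) := by
      intro l m h
      apply sr_conj C₁
      obtain ⟨m', hm⟩ := conj_C i 0 u l m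
      rw [hm]
      exact s0 _ _ h
    have h3 : (3 : ℤ) ∣ l ∨ (3 : ℤ) ∣ l - 2 ∨ (3 : ℤ) ∣ (l - 2) - 2 := by omega
    rcases h3 with h | h | h
    · exact s0 l m h
    · exact s2 l m h
    · apply sr_conj C₁
      obtain ⟨m', hm⟩ := conj_C i 0 u l m
      rw [hm]
      exact s2 _ _ h
  have s0 : ∀ j m : ℤ, (3 : ℤ) ∣ j → SR (nf W A B C₁ D i j u l m * F) := by
    intro j m h
    rw [nf_mod (j' := 0) (l' := l) (by simpa using h) (by simp)]
    exact hl i u m l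
  have s1 : ∀ j m : ℤ, (3 : ℤ) ∣ j - 1 → SR (nf W A B C₁ D i j u l m * F) := by
    intro j m h
    apply sr_conj A
    obtain ⟨m', hm⟩ := conj_A i j u l m
    rw [hm]
    exact s0 _ _ h
  have h3 : (3 : ℤ) ∣ j ∨ (3 : ℤ) ∣ j - 1 ∨ (3 : ℤ) ∣ (j - 1) - 1 := by omega
  rcases h3 with h | h | h
  · exact s0 j m h
  · exact s1 j m h
  · apply sr_conj A
    obtain ⟨m', hm⟩ := conj_A i j u l m
    rw [hm]
    exact s1 _ _ h

theorem sr_inv {x : Spor.HN} (h : SR x) : SR x⁻¹ := by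
  obtain ⟨t, ht, hx⟩ := h
  refine ⟨t, ht, ?_⟩
  calc t * x⁻¹ * t⁻¹ = (t * x * t⁻¹)⁻¹ := by group
    _ = x⁻¹⁻¹ := by rw [hx]

theorem sr_P {x : Spor.HN} (hx : x ∈ P) : SR x := by
  obtain ⟨q, hq, s, rfl⟩ := hx
  have h3 : (3 : ℤ) ∣ s - 0 ∨ (3 : ℤ) ∣ s - 1 ∨ (3 : ℤ) ∣ s - (-1) := by omega
  rcases h3 with h | h | h
  · rw [zpow_eq e_f3 h, zpow_zero, mul_one]
    exact sr_Q hq
  · rw [zpow_eq e_f3 h, zpow_one]
    exact sr_F hq
  · rw [zpow_eq e_f3 h, zpow_neg_one]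
    have h1 := sr_F (F_Q _ (inv_mem hq))
    have h2 : F * q⁻¹ * F⁻¹ * F = (q * F⁻¹)⁻¹ := by group
    rw [h2] at h1
    have h4 := sr_inv h1
    rwa [inv_inv] at h4

/-- **3-elements are inverted by involutions** -/
theorem sr_three {g : Spor.HN} {n : ℕ} (hg : g ^ 3 ^ n = 1) : SR g := by
  have : Finite Spor.HN := Nat.finite_of_card_ne_zero (by rw [card_HN]; norm_num)
  have h1 : IsPGroup 3 (zpowers g) := by
    rintro ⟨_, m, rfl⟩
    refine ⟨n, Subtype.ext ?_⟩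
    change (g ^ m) ^ 3 ^ n = 1
    rw [← zpow_natCast, ← zpow_mul, mul_comm, zpow_mul, zpow_natCast, hg, one_zpow]
  obtain ⟨Q, hQ⟩ := h1.exists_le_sylow
  obtain ⟨x, hx⟩ := MulAction.exists_smul_eq Spor.HN Q (isPGroup_P.toSylow index_P)
  have h2 : (Q : Subgroup Spor.HN).map (MulAut.conj x).toMonoidHom = P := by
    have := congrArg (fun S : Sylow 3 Spor.HN => (S : Subgroup Spor.HN)) hx
    exact this
  have h3 : x * g * x⁻¹ ∈ P := by
    rw [← h2]
    exact ⟨g, hQ (mem_zpowers g), rfl⟩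
  exact sr_conj x (sr_P h3)

end Cfsg.Agent.H728.Four.HN3
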